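import Cfsg.Agent.EqLemmas

/-!
# The simple factors of a non-abelian minimal normal subgroup

* `IsFactorSet N s`: `s` is a finite set of commuting non-abelian simple subgroups generating `N`,
  permuted transitively by conjugation.
* `exists_factorSet`: every non-abelian minimal normal subgroup has one.
* `pow_card_le_card_sup`: a subset of r factors of order b generates a subgroup of order ≥ b ^ r.
-/

namespace Cfsg.Agent.CompLen

set_option autoImplicit false

variable {G : Type*} [Group G]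

/-- The conjugate `g T g⁻¹`. -/
def cj (g : G) (T : Subgroup G) : Subgroup G := T.map (MulAut.conj g).toMonoidHom

theorem mem_cj {g x : G} {T : Subgroup G} : x ∈ cj g T ↔ g⁻¹ * x * g ∈ T := by
  constructor
  · rintro ⟨y, hy, rfl⟩; simpa [mul_assoc] using hy
  · intro h; exact ⟨_, h, by simp [mul_assoc]⟩

theorem cj_mul (g h : G) (T : Subgroup G) : cj (g * h) T = cj g (cj h T) := by
  ext x; simp [mem_cj, mul_assoc]

theorem cj_one (T : Subgroup G) : cj 1 T = T := by
  ext x; simp [mem_cj]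

theorem card_cj (g : G) (T : Subgroup G) : Nat.card (cj g T) = Nat.card T :=
  Nat.card_congr (T.equivMapOfInjective _ (MulAut.conj g).injective).symm.toEquiv

theorem cj_eq_iff_mem_normalizer [Finite G] {g : G} {T : Subgroup G} :
    cj g T = T ↔ g ∈ Subgroup.normalizer (T : Set G) := by
  rw [Subgroup.mem_normalizer_iff'']
  constructor
  · intro h x
    exact ⟨fun hx => mem_cj.1 (h.symm ▸ hx), fun hx => h ▸ mem_cj.2 hx⟩
  · intro h
    ext x
    rw [mem_cj]
    exact (h x).symm

/-- A set of commuting non-abelian simple factors of `N`, transitively permuted by `G`. -/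
structure IsFactorSet (N : Subgroup G) (s : Finset (Subgroup G)) : Prop where
  nonempty : s.Nonempty
  le : ∀ T ∈ s, T ≤ N
  simple : ∀ T ∈ s, IsSimpleGroup T
  nonabelian : ∀ T ∈ s, ¬ IsMulCommutative T
  commute : ∀ T ∈ s, ∀ U ∈ s, T ≠ U → ∀ x ∈ T, ∀ y ∈ U, x * y = y * x
  gen : s.sup id = N
  conj_mem : ∀ g : G, ∀ T ∈ s, cj g T ∈ s
  trans : ∀ T ∈ s, ∀ U ∈ s, ∃ g : G, cj g T = U

variable [Finite G]

theorem exists_factorSet (N : Subgroup G) [hN : N.Normal] (hne : N ≠ ⊥)
    (hmin : ∀ M : Subgroup G, M.Normal → M ≤ N → M ≠ ⊥ → M = N) (hna : ¬ IsMulCommutative N) :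
    ∃ s, IsFactorSet N s := by
  classical
  let _ : Fintype G := Fintype.ofFinite G
  have : Finite (Subgroup G) := inferInstance
  let P : Subgroup G → Prop := fun U =>
    U ≠ ⊥ ∧ U ≤ N ∧ N ≤ Subgroup.normalizer (U : Set G)
  obtain ⟨T, hT, hTmin⟩ := Set.exists_min_image {U : Subgroup G | P U} (fun U => Nat.card U)
    (Set.toFinite _) ⟨N, hne, le_rfl, Subgroup.le_normalizer⟩
  obtain ⟨hT0, hTN, hTn⟩ := hT
  have hPcj : ∀ g, P (cj g T) := by
    intro g
    refine ⟨fun h => hT0 ?_, ?_, ?_⟩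
    · exact Subgroup.card_eq_one.1 (by rw [← card_cj g, h, Subgroup.card_bot])
    · rintro x ⟨y, hy, rfl⟩
      exact hN.conj_mem y (hTN hy) g
    · intro x hx
      rw [← cj_eq_iff_mem_normalizer, ← cj_mul, show x * g = g * (g⁻¹ * x * g) by group, cj_mul]
      rw [cj_eq_iff_mem_normalizer.2 (hTn (by simpa using hN.conj_mem x hx g⁻¹))]
  let _ : Fintype (Subgroup G) := Fintype.ofFinite _
  let s : Finset (Subgroup G) := Finset.univ.image (fun g => cj g T)
  have hs : ∀ U, U ∈ s ↔ ∃ g, cj g T = U := fun U => by simp [s]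
  have hPs : ∀ U ∈ s, P U ∧ Nat.card U = Nat.card T := fun U hU => by
    obtain ⟨g, rfl⟩ := (hs U).1 hU
    exact ⟨hPcj g, card_cj g T⟩
  have hcomm : ∀ A ∈ s, ∀ B ∈ s, A ≠ B → ∀ x ∈ A, ∀ y ∈ B, x * y = y * x := by
    intro A hA B hB hAB x hx y hy
    obtain ⟨⟨-, hAN, hAn⟩, hAc⟩ := hPs A hA
    obtain ⟨⟨-, hBN, hBn⟩, hBc⟩ := hPs B hB
    have hbot : A ⊓ B = ⊥ := by
      by_contra h
      have hnorm : N ≤ Subgroup.normalizer ((A ⊓ B : Subgroup G) : Set G) := fun g hg => by
        rw [Subgroup.mem_normalizer_iff]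
        intro z
        simp only [Subgroup.mem_inf]
        rw [Subgroup.mem_normalizer_iff.1 (hAn hg) z, Subgroup.mem_normalizer_iff.1 (hBn hg) z]
      have h1 : Nat.card T ≤ Nat.card (A ⊓ B : Subgroup G) :=
        hTmin _ ⟨h, inf_le_left.trans hAN, hnorm⟩
      have e1 := Subgroup.eq_of_le_of_card_ge (inf_le_left : A ⊓ B ≤ A) (hAc ▸ h1)
      have e2 := Subgroup.eq_of_le_of_card_ge (inf_le_right : A ⊓ B ≤ B) (hBc ▸ h1)
      exact hAB (e1.symm.trans e2)
    have h1 : x * y * x⁻¹ * y⁻¹ ∈ A ⊓ B := by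
      refine ⟨?_, ?_⟩
      · have := (Subgroup.mem_normalizer_iff.1 (hAn (hBN hy)) x⁻¹).1 (inv_mem hx)
        simpa [mul_assoc] using mul_mem hx this
      · have := (Subgroup.mem_normalizer_iff.1 (hBn (hAN hx)) y).1 hy
        exact B.mul_mem this (B.inv_mem hy)
    rw [hbot, Subgroup.mem_bot, mul_inv_eq_one, mul_inv_eq_iff_eq_mul] at h1
    exact h1
  have hgen : s.sup id = N := by
    refine hmin _ ⟨fun x hx g => ?_⟩ (Finset.sup_le fun U hU => (hPs U hU).1.2.1) (fun h => hT0 ?_)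
    · have hle : s.sup id ≤ (s.sup id).comap (MulAut.conj g).toMonoidHom := by
        refine Finset.sup_le fun U hU y hy => ?_
        obtain ⟨h, rfl⟩ := (hs U).1 hU
        refine Finset.le_sup (f := id) ((hs _).2 ⟨g * h, rfl⟩) ?_
        rw [id, cj_mul]
        exact Subgroup.mem_map_of_mem _ hy
      exact hle hx
    · have : T ≤ s.sup id := Finset.le_sup (f := id) ((hs T).2 ⟨1, cj_one T⟩)
      rw [h, le_bot_iff] at this
      exact this
  have hnab : ∀ U ∈ s, ¬ IsMulCommutative U := by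
    intro U hU hc
    apply hna
    obtain ⟨g₀, rfl⟩ := (hs U).1 hU
    have hall : ∀ A ∈ s, ∀ x ∈ A, ∀ y ∈ A, x * y = y * x := by
      intro A hA x hx y hy
      obtain ⟨h, rfl⟩ := (hs A).1 hA
      rw [mem_cj] at hx hy
      have hx' : g₀ * (h⁻¹ * x * h) * g₀⁻¹ ∈ cj g₀ T := by rw [mem_cj]; simpa [mul_assoc] using hx
      have hy' : g₀ * (h⁻¹ * y * h) * g₀⁻¹ ∈ cj g₀ T := by rw [mem_cj]; simpa [mul_assoc] using hy
      have := congrArg Subtype.val (hc.is_comm.comm ⟨_, hx'⟩ ⟨_, hy'⟩)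
      have h2 : x * (y * (h * g₀⁻¹)) = y * (x * (h * g₀⁻¹)) := by simpa [mul_assoc] using this
      exact mul_right_cancel (b := h * g₀⁻¹) (by rwa [mul_assoc, mul_assoc])
    have : ∀ x ∈ (⋃ A ∈ s, (A : Set G)), ∀ y ∈ (⋃ A ∈ s, (A : Set G)), x * y = y * x := by
      intro x hx y hy
      simp only [Set.mem_iUnion, SetLike.mem_coe, exists_prop] at hx hy
      obtain ⟨A, hA, hxA⟩ := hx
      obtain ⟨B, hB, hyB⟩ := hy
      by_cases e : A = B
      · subst e; exact hall A hA x hxA y hyB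
      · exact hcomm A hA B hB e x hxA y hyB
    have hcl := Subgroup.isMulCommutative_closure this
    have heq : Subgroup.closure (⋃ A ∈ s, (A : Set G)) = N := by
      rw [← hgen]
      refine le_antisymm ((Subgroup.closure_le _).2 ?_) (Finset.sup_le fun A hA => ?_)
      · simp only [Set.iUnion_subset_iff]
        exact fun A hA => Finset.le_sup (f := id) hA
      · exact fun x hx => Subgroup.subset_closure (Set.mem_biUnion hA hx)
    exact heq ▸ hcl
  refine ⟨s, ⟨⟨T, (hs T).2 ⟨1, cj_one T⟩⟩, fun U hU => (hPs U hU).1.2.1, ?_, hnab, hcomm, hgen,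
    fun g U hU => ?_, fun U hU V hV => ?_⟩⟩
  · intro U hU
    obtain ⟨⟨hU0, hUN, hUn⟩, hUc⟩ := hPs U hU
    have : Nontrivial U := (Subgroup.nontrivial_iff_ne_bot U).2 hU0
    refine { eq_bot_or_eq_top_of_normal := fun M hM => ?_ }
    by_cases hM0 : M = ⊥
    · exact Or.inl hM0
    right
    have hMn : N ≤ Subgroup.normalizer ((M.map U.subtype : Subgroup G) : Set G) := by
      conv_lhs => rw [← hgen]
      refine Finset.sup_le fun A hA x hx => ?_
      by_cases e : A = U
      · subst e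
        rw [← cj_eq_iff_mem_normalizer]
        ext z
        rw [mem_cj]
        constructor
        · rintro ⟨w, hw, hwz⟩
          refine ⟨⟨x, hx⟩ * w * ⟨x, hx⟩⁻¹, hM.conj_mem w hw _, ?_⟩
          simp only [map_mul, map_inv, Subgroup.subtype_apply] at hwz ⊢
          rw [hwz]; group
        · rintro ⟨w, hw, rfl⟩
          refine ⟨⟨x, hx⟩⁻¹ * w * ⟨x, hx⟩, by simpa using hM.conj_mem w hw ⟨x, hx⟩⁻¹, ?_⟩
          simp [mul_assoc]
      · rw [Subgroup.mem_normalizer_iff]
        have key : ∀ z ∈ M.map U.subtype, x * z * x⁻¹ = z := by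
          rintro z ⟨w, -, rfl⟩
          rw [Subgroup.subtype_apply, hcomm A hA U hU e x hx (w : G) w.2, mul_inv_cancel_right]
        intro z
        refine ⟨fun hz => (key z hz).symm ▸ hz, fun hz => ?_⟩
        have := key _ hz
        have e' : x * z * x⁻¹ = z := by
          have h2 := congrArg (fun t => x⁻¹ * t * x) this
          simpa [mul_assoc] using h2
        exact e' ▸ hz
    have hle : M.map U.subtype ≤ U := Subgroup.map_subtype_le M
    have hb : M.map U.subtype ≠ ⊥ := fun h => hM0 (by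
      rwa [Subgroup.map_eq_bot_iff_of_injective _ U.subtype_injective] at h)
    have h1 : Nat.card T ≤ Nat.card (M.map U.subtype) := hTmin _ ⟨hb, hle.trans hUN, hMn⟩
    have := Subgroup.eq_of_le_of_card_ge hle (hUc ▸ h1)
    refine Subgroup.map_injective U.subtype_injective ?_
    rw [this, ← MonoidHom.range_eq_map, Subgroup.range_subtype]
  · obtain ⟨h, rfl⟩ := (hs U).1 hU
    exact (hs _).2 ⟨g * h, cj_mul g h T⟩
  · obtain ⟨g, rfl⟩ := (hs U).1 hU
    obtain ⟨h, rfl⟩ := (hs V).1 hV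
    exact ⟨h * g⁻¹, by rw [← cj_mul, inv_mul_cancel_right]⟩

theorem IsFactorSet.card_eq {N : Subgroup G} {s : Finset (Subgroup G)} (h : IsFactorSet N s)
    {T U : Subgroup G} (hT : T ∈ s) (hU : U ∈ s) : Nat.card T = Nat.card U := by
  obtain ⟨g, rfl⟩ := h.trans T hT U hU
  exact (card_cj g T).symm

theorem IsFactorSet.center_eq_bot {N : Subgroup G} {s : Finset (Subgroup G)} (h : IsFactorSet N s)
    {T : Subgroup G} (hT : T ∈ s) {x : G} (hx : x ∈ T) (hc : ∀ y ∈ T, x * y = y * x) : x = 1 := by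
  have := h.simple T hT
  have hmem : (⟨x, hx⟩ : T) ∈ Subgroup.center T :=
    Subgroup.mem_center_iff.2 fun y => Subtype.ext (hc y y.2).symm
  rcases IsSimpleGroup.eq_bot_or_eq_top_of_normal (Subgroup.center T) inferInstance with e | e
  · rw [e, Subgroup.mem_bot] at hmem
    exact congrArg Subtype.val hmem
  · exact absurd ⟨⟨fun a b => (Subgroup.mem_center_iff.1 (e ▸ Subgroup.mem_top b : b ∈ Subgroup.center T) a)⟩⟩
      (h.nonabelian T hT)

theorem IsFactorSet.sup_commute {N : Subgroup G} {s : Finset (Subgroup G)} (h : IsFactorSet N s)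
    {R : Finset (Subgroup G)} (hR : R ⊆ s) {T : Subgroup G} (hT : T ∈ s) (hTR : T ∉ R) :
    ∀ x ∈ T, ∀ y ∈ R.sup id, x * y = y * x := by
  intro x hx y hy
  have hle : R.sup id ≤ Subgroup.centralizer (T : Set G) := Finset.sup_le fun U hU z hz w hw => by
    exact h.commute T hT U (hR hU) (fun e => hTR (e ▸ hU)) w hw z hz
  exact hle hy x hx

theorem IsFactorSet.pow_card_le_card_sup {N : Subgroup G} {s : Finset (Subgroup G)}
    (h : IsFactorSet N s) {T : Subgroup G} (hT : T ∈ s) :
    ∀ R ⊆ s, Nat.card T ^ R.card ≤ Nat.card (R.sup id : Subgroup G) := by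
  classical
  intro R
  induction R using Finset.induction with
  | empty => intro _; simp
  | insert U R hU ih =>
    intro hsub
    have hUs : U ∈ s := hsub (Finset.mem_insert_self U R)
    have hRs : R ⊆ s := (Finset.subset_insert U R).trans hsub
    rw [Finset.card_insert_of_notMem hU, Finset.sup_insert, id_eq, pow_succ', h.card_eq hT hUs]
    have := ih hRs
    rw [h.card_eq hT hUs] at this
    refine (Nat.mul_le_mul_left _ this).trans ?_
    rw [← Nat.card_prod]
    let f : U × (R.sup id : Subgroup G) → (U ⊔ R.sup id : Subgroup G) := fun p =>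
      ⟨(p.1 : G) * p.2, mul_mem (Subgroup.mem_sup_left p.1.2) (Subgroup.mem_sup_right p.2.2)⟩
    refine Nat.card_le_card_of_injective f ?_
    rintro ⟨a, b⟩ ⟨c, d⟩ e
    have e' : (a : G) * b = c * d := congrArg Subtype.val e
    have hz : (c : G)⁻¹ * a = d * (b : G)⁻¹ := by
      rw [eq_mul_inv_iff_mul_eq, mul_assoc, e', inv_mul_cancel_left]
    have h1 : (c : G)⁻¹ * a = 1 := h.center_eq_bot hUs (mul_mem (inv_mem c.2) a.2) fun y hy =>
      (h.sup_commute hRs hUs hU y hy _ (hz ▸ mul_mem d.2 (inv_mem b.2))).symm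
    have h2 : (a : G) = c := (inv_mul_eq_one.1 h1).symm
    rw [h1] at hz
    have h3 : (b : G) = d := (mul_inv_eq_one.1 hz.symm).symm
    exact Prod.ext (Subtype.ext h2) (Subtype.ext h3)

end Cfsg.Agent.CompLen
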