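import Cfsg.Agent.Lib.CompLen.Basic

/-!
# The affine case of the composition length bound

* `affine_bound`: a transitive faithful group with a regular elementary abelian normal subgroup of
  order p ^ d, d ≥ 2, satisfies `3 * clen G + 4 ≤ 4 * p ^ d`.
-/

namespace Cfsg.Agent.CompLen

open MulAction

set_option autoImplicit false

theorem clen_le_clen_add_clen_of_sup {G : Type*} [Group G] [Finite G] (N H : Subgroup G) [N.Normal]
    (h : ∀ g : G, ∃ n ∈ N, ∃ x ∈ H, g = n * x) : clen G ≤ clen N + clen H := by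
  refine (clen_le_add N (QuotientGroup.mk' N) (QuotientGroup.ker_mk' N)).trans ?_
  refine Nat.add_le_add_left ?_ _
  refine clen_le_of_surjective
    (((QuotientGroup.mk' N).comp H.subtype).codRestrict _ (fun x => ⟨x, rfl⟩)) ?_
  rintro ⟨_, g, rfl⟩
  obtain ⟨n, hn, x, hx, rfl⟩ := h g
  refine ⟨⟨x, hx⟩, Subtype.ext ?_⟩
  show QuotientGroup.mk' N x = QuotientGroup.mk' N (n * x)
  rw [map_mul, show QuotientGroup.mk' N n = 1 from (QuotientGroup.eq_one_iff n).2 hn, one_mul]

theorem exists_mem_mul_stabilizer {G X : Type*} [Group G] [MulAction G X] (N : Subgroup G) (a : X)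
    (h : ∀ x : X, ∃ n ∈ N, n • a = x) (g : G) :
    ∃ n ∈ N, ∃ y ∈ stabilizer G a, g = n * y := by
  obtain ⟨n, hn, hna⟩ := h (g • a)
  refine ⟨n, hn, n⁻¹ * g, ?_, (mul_inv_cancel_left n g).symm⟩
  rw [mem_stabilizer_iff, mul_smul, ← hna, inv_smul_smul]

theorem exists_generators {G : Type*} [Group G] [Finite G] {p d : ℕ} [hp : Fact p.Prime]
    (N : Subgroup G) (hN : Nat.card N = p ^ d) :
    ∃ S : Finset G, S.card ≤ d ∧ (∀ x ∈ S, x ∈ N ∧ x ≠ 1) ∧ Subgroup.closure (S : Set G) = N := by
  classical
  have : ∀ k, ∃ S : Finset G, S.card ≤ k ∧ (∀ x ∈ S, x ∈ N ∧ x ≠ 1) ∧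
      (Subgroup.closure (S : Set G) = N ∨ p ^ k ≤ Nat.card (Subgroup.closure (S : Set G))) := by
    intro k
    induction k with
    | zero => exact ⟨∅, le_rfl, by simp, Or.inr (by simp)⟩
    | succ k ih =>
      obtain ⟨S, hS1, hS2, hS3⟩ := ih
      set H := Subgroup.closure (S : Set G) with hH
      have hHN : H ≤ N := (Subgroup.closure_le _).2 fun x hx => (hS2 x hx).1
      by_cases he : H = N
      · exact ⟨S, hS1.trans (Nat.le_succ k), hS2, Or.inl he⟩
      obtain ⟨x, hxN, hxH⟩ := SetLike.exists_of_lt (lt_of_le_of_ne hHN he)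
      refine ⟨insert x S, (Finset.card_insert_le _ _).trans (by omega), ?_, Or.inr ?_⟩
      · intro y hy
        rcases Finset.mem_insert.1 hy with rfl | hy
        · exact ⟨hxN, fun h => hxH (h ▸ one_mem H)⟩
        · exact hS2 y hy
      set K := Subgroup.closure ((insert x S : Finset G) : Set G) with hK
      have hHK : H ≤ K := Subgroup.closure_mono (by simp)
      have hKN : K ≤ N := (Subgroup.closure_le _).2 fun y hy => by
        rcases Finset.mem_insert.1 hy with rfl | hy
        · exact hxN
        · exact (hS2 y hy).1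
      have hr : p ≤ H.relIndex K := by
        have hd : H.relIndex K ∣ p ^ d :=
          hN ▸ (Dvd.intro _ (relIndex_mul_card hHK)).trans (Subgroup.card_dvd_of_le hKN)
        obtain ⟨i, -, hi⟩ := (Nat.dvd_prime_pow hp.out).1 hd
        rw [hi]
        refine Nat.le_self_pow ?_ p
        rintro rfl
        rw [pow_zero, Subgroup.relIndex_eq_one] at hi
        exact hxH (hi (Subgroup.subset_closure (by simp)))
      rw [pow_succ', ← relIndex_mul_card hHK]
      rcases hS3 with h | h
      · exact absurd h he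
      · exact Nat.mul_le_mul hr h
  obtain ⟨S, hS1, hS2, hS3⟩ := this d
  refine ⟨S, hS1, hS2, ?_⟩
  rcases hS3 with h | h
  · exact h
  · exact Subgroup.eq_of_le_of_card_ge ((Subgroup.closure_le _).2 fun x hx => (hS2 x hx).1)
      (hN ▸ h)

theorem affine_numeric {p d : ℕ} (hd : 2 ≤ d) (h : 3 ≤ p ∨ (p = 2 ∧ 4 ≤ d)) :
    3 * (d + (p - 1) * (d * d)) + 4 ≤ 4 * p ^ d := by
  rcases h with h | ⟨rfl, h⟩
  · obtain ⟨q, rfl⟩ : ∃ q, p = q + 3 := ⟨p - 3, by omega⟩
    rw [show q + 3 - 1 = q + 2 by omega]
    induction d, hd using Nat.le_induction with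
    | base => nlinarith [sq_nonneg q]
    | succ d hd ih =>
      rw [pow_succ]
      nlinarith [Nat.mul_le_mul hd hd, Nat.zero_le q, Nat.zero_le (q * (d * d)),
        Nat.zero_le (q * (q + 3) ^ d), Nat.one_le_pow d (q + 3) (by omega),
        Nat.mul_le_mul_left q (Nat.mul_le_mul hd hd)]
  · induction d, h using Nat.le_induction with
    | base => norm_num
    | succ d hd4 ih =>
      have := ih (by omega)
      rw [pow_succ]
      nlinarith [Nat.mul_le_mul hd4 (le_refl d)]

theorem small_divisor : ∀ m ≤ 210, m ∣ 5040 → 128 ≤ m →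
    m = 140 ∨ m = 144 ∨ m = 168 ∨ m = 180 ∨ m = 210 := by
  decide +kernel

theorem cardFactors_small {m : ℕ} (h1 : m ≤ 210) (h2 : m ∣ 5040) (h3 : 128 ≤ m) :
    ArithmeticFunction.cardFactors m ≤ 6 := by
  have key : ∀ l : List ℕ, l.prod = m → (∀ q ∈ l, q.Prime) → l.length ≤ 6 →
      ArithmeticFunction.cardFactors m ≤ 6 := fun l hl hq hlen => by
    rw [ArithmeticFunction.cardFactors_apply, ← (Nat.primeFactorsList_unique hl hq).length_eq]
    exact hlen
  rcases small_divisor m h1 h2 h3 with rfl | rfl | rfl | rfl | rfl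
  · exact key [2, 2, 5, 7] (by norm_num) (by simp; norm_num) (by simp)
  · exact key [2, 2, 2, 2, 3, 3] (by norm_num) (by simp; norm_num) (by simp)
  · exact key [2, 2, 2, 3, 7] (by norm_num) (by simp; norm_num) (by simp)
  · exact key [2, 2, 3, 3, 5] (by norm_num) (by simp; norm_num) (by simp)
  · exact key [2, 3, 5, 7] (by norm_num) (by simp; norm_num) (by simp)

/-- The affine case. -/
theorem affine_bound {G X : Type*} [Group G] [Finite G] [MulAction G X] [FaithfulSMul G X]
    [Finite X] {p d : ℕ} [hp : Fact p.Prime] (hd : 2 ≤ d) (N : Subgroup G) [hNn : N.Normal]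
    (htr : ∀ a b : X, ∃ x ∈ N, x • a = b) (hN : Nat.card N = p ^ d) (hX : Nat.card X = p ^ d) :
    3 * clen G + 4 ≤ 4 * p ^ d := by
  classical
  have hpos : 0 < Nat.card X := hX ▸ pow_pos hp.out.pos d
  obtain ⟨⟨a⟩, -⟩ := Nat.card_pos_iff.1 hpos
  set H := stabilizer G a with hH
  obtain ⟨S, hSd, hSN, hSgen⟩ := exists_generators N hN
  have hfix : ∀ g ∈ H, (∀ x ∈ S, g * x = x * g) → g = 1 := by
    intro g hg hcomm
    have hc : ∀ x ∈ N, g * x = x * g := by
      have hle : N ≤ Subgroup.centralizer {g} := by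
        rw [← hSgen, Subgroup.closure_le]
        intro x hx y hy
        rw [Set.mem_singleton_iff.1 hy]
        exact hcomm x hx
      intro x hx
      exact hle hx g rfl
    refine eq_of_smul_eq_smul (α := X) fun b => ?_
    obtain ⟨x, hx, rfl⟩ := htr a b
    rw [one_smul, ← mul_smul, hc x hx, mul_smul, mem_stabilizer_iff.1 hg]
  have hcard1 : Nat.card H ≤ (p ^ d - 1).descFactorial S.card := by
    let N₁ := {x : G // x ∈ N ∧ x ≠ 1}
    have hN₁ : Nat.card N₁ = p ^ d - 1 := by
      have e : N₁ ≃ {x : N // x ≠ 1} :=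
        { toFun := fun x => ⟨⟨x.1, x.2.1⟩, fun h => x.2.2 (congrArg Subtype.val h)⟩
          invFun := fun x => ⟨x.1.1, x.1.2, fun h => x.2 (Subtype.ext h)⟩
          left_inv := fun x => rfl
          right_inv := fun x => rfl }
      let _ : Fintype N := Fintype.ofFinite N
      rw [Nat.card_congr e, Nat.card_eq_fintype_card, Fintype.card_subtype_compl,
        Fintype.card_subtype_eq, ← hN, Nat.card_eq_fintype_card]
    let _ : Fintype N₁ := Fintype.ofFinite N₁
    let f : H → (↥S ↪ N₁) := fun g =>
      ⟨fun x => ⟨g * x * (g : G)⁻¹, hNn.conj_mem _ (hSN x x.2).1 _,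
        fun h => (hSN x x.2).2 (by simpa using h)⟩,
       fun x y h => by
         have := congrArg Subtype.val h
         exact Subtype.ext (by simpa using this)⟩
    have hf : Function.Injective f := by
      intro g g' h
      have : (g' : G)⁻¹ * g = 1 := by
        refine hfix _ (mul_mem (inv_mem g'.2) g.2) fun x hx => ?_
        have h1 : (g : G) * x * (g : G)⁻¹ = g' * x * (g' : G)⁻¹ :=
          congrArg Subtype.val (congrFun (congrArg (fun e : ↥S ↪ N₁ => ⇑e) h) ⟨x, hx⟩)
        calc (g' : G)⁻¹ * g * x = (g' : G)⁻¹ * ((g : G) * x * (g : G)⁻¹) * g := by group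
          _ = (g' : G)⁻¹ * ((g' : G) * x * (g' : G)⁻¹) * g := by rw [h1]
          _ = x * ((g' : G)⁻¹ * g) := by group
      exact Subtype.ext (inv_mul_eq_one.1 this).symm
    refine (Nat.card_le_card_of_injective f hf).trans (le_of_eq ?_)
    rw [Nat.card_eq_fintype_card, Fintype.card_embedding_eq, Fintype.card_coe,
      ← Nat.card_eq_fintype_card (α := N₁), hN₁]
  have hdiv : Nat.card H ∣ Nat.factorial (p ^ d - 1) := by
    let f : H →* Equiv.Perm {b : X // b ≠ a} :=
      { toFun := fun g => (toPerm (g : G)).subtypePerm (fun b => by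
          show (g : G) • b ≠ a ↔ b ≠ a
          rw [not_iff_not, smul_eq_iff_eq_inv_smul, mem_stabilizer_iff.1 (inv_mem g.2)])
        map_one' := Equiv.ext fun b => Subtype.ext (one_smul G b.1)
        map_mul' := fun g h => Equiv.ext fun b => Subtype.ext (mul_smul (g : G) h b.1) }
    have hf : Function.Injective f := by
      intro g h e
      refine Subtype.ext (eq_of_smul_eq_smul (α := X) fun b => ?_)
      by_cases hb : b = a
      · rw [hb, mem_stabilizer_iff.1 g.2, mem_stabilizer_iff.1 h.2]
      · exact congrArg Subtype.val (Equiv.ext_iff.1 e ⟨b, hb⟩)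
    refine (Subgroup.card_dvd_of_injective f hf).trans (dvd_of_eq ?_)
    let _ : Fintype X := Fintype.ofFinite X
    rw [Nat.card_perm, Nat.card_eq_fintype_card, Fintype.card_subtype_compl,
      Fintype.card_subtype_eq, ← Nat.card_eq_fintype_card, hX]
  have hG : clen G ≤ d + clen H :=
    (clen_le_clen_add_clen_of_sup N H
      (exists_mem_mul_stabilizer N a (fun x => htr a x))).trans
      (Nat.add_le_add_right (clen_le_of_isPGroup hN) _)
  have h2 := two_pow_clen_le_card (G := H)
  by_cases hsmall : 3 ≤ p ∨ (p = 2 ∧ 4 ≤ d)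
  · have hle : 2 ^ clen H ≤ 2 ^ ((p - 1) * (d * d)) := by
      refine h2.trans (hcard1.trans ((Nat.descFactorial_le_pow _ _).trans ?_))
      calc (p ^ d - 1) ^ S.card ≤ (p ^ d) ^ S.card := Nat.pow_le_pow_left (Nat.sub_le _ _) _
        _ ≤ (p ^ d) ^ d := Nat.pow_le_pow_right (pow_pos hp.out.pos d) hSd
        _ = p ^ (d * d) := (pow_mul p d d).symm
        _ ≤ (2 ^ (p - 1)) ^ (d * d) := Nat.pow_le_pow_left (by
            have := (p - 1).lt_two_pow_self
            omega) _
        _ = 2 ^ ((p - 1) * (d * d)) := (pow_mul 2 (p - 1) (d * d)).symm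
    have := (Nat.pow_le_pow_iff_right (by norm_num)).1 hle
    have := affine_numeric hd hsmall
    omega
  · rw [not_or, not_le, not_and, not_le] at hsmall
    obtain rfl : p = 2 := by have := hp.out.two_le; omega
    have hd3 := hsmall.2 rfl
    interval_cases d
    · have : Nat.card H ≤ 6 := by
        refine hcard1.trans ?_
        interval_cases hc : S.card <;> norm_num [Nat.descFactorial]
      have hc : clen H ≤ 2 := by
        by_contra hlt
        have : 2 ^ 3 ≤ Nat.card H := (Nat.pow_le_pow_right (by norm_num) (by omega)).trans h2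
        omega
      norm_num
      omega
    · have h210 : Nat.card H ≤ 210 := by
        refine hcard1.trans ?_
        interval_cases hc : S.card <;> norm_num [Nat.descFactorial]
      have h5040 : Nat.card H ∣ 5040 := hdiv
      have hc : clen H ≤ 6 := by
        by_contra hlt
        have h128 : 128 ≤ Nat.card H :=
          le_trans (by norm_num) ((Nat.pow_le_pow_right (n := 2) (by norm_num) (show 7 ≤ clen H by omega)).trans h2)
        have := clen_le_cardFactors (G := H)
        have := cardFactors_small h210 h5040 h128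
        omega
      norm_num
      omega

end Cfsg.Agent.CompLen
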