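import Cfsg.Agent.EqLemmas

/-!
# Composition length of finite groups

`clen G` is the largest number of strict steps in a chain `⊥ = H 0 ≤ ... ≤ H l = ⊤` in which every
term is normal in the next.

* `jumps_le_clen`, `le_clen_of_strict`: every series is bounded by `clen`.
* `clen_le_add`: `clen G ≤ clen N + clen Q` for an exact sequence.
* `clen_le_of_surjective`, `clen_le_of_normal`, `clen_congr`.
* `clen_le_one_of_isSimpleGroup`, `clen_eq_zero_of_subsingleton`, `pow_clen_le_card`,
  `two_pow_clen_le_card`, `clen_le_cardFactors`.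
-/

namespace Cfsg.Agent.CompLen

set_option autoImplicit false

open scoped Classical

/-- A chain from ⊥ to ⊤ of length l, each term normal in the next. -/
structure IsSeries (G : Type*) [Group G] (l : ℕ) (H : ℕ → Subgroup G) : Prop where
  bot : H 0 = ⊥
  top : H l = ⊤
  le : ∀ i < l, H i ≤ H (i + 1)
  normal : ∀ i < l, ((H i).subgroupOf (H (i + 1))).Normal

/-- The number of strict steps of a chain. -/
noncomputable def jumps {G : Type*} [Group G] (l : ℕ) (H : ℕ → Subgroup G) : ℕ :=
  {i : ℕ | i < l ∧ H i ≠ H (i + 1)}.ncard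

/-- Composition length. -/
noncomputable def clen (G : Type*) [Group G] : ℕ :=
  sSup {k : ℕ | ∃ l H, IsSeries G l H ∧ jumps l H = k}

section

variable {G : Type*} [Group G]

theorem jumps_succ (l : ℕ) (H : ℕ → Subgroup G) :
    jumps (l + 1) H = jumps l H + (if H l ≠ H (l + 1) then 1 else 0) := by
  unfold jumps
  split_ifs with h
  · have : {i | i < l + 1 ∧ H i ≠ H (i + 1)} = insert l {i | i < l ∧ H i ≠ H (i + 1)} := by
      ext i
      simp only [Set.mem_setOf_eq, Set.mem_insert_iff]
      constructor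
      · rintro ⟨h1, h2⟩
        rcases Nat.lt_succ_iff_lt_or_eq.1 h1 with h3 | h3
        · exact Or.inr ⟨h3, h2⟩
        · exact Or.inl h3
      · rintro (rfl | ⟨h1, h2⟩)
        · exact ⟨Nat.lt_succ_self i, h⟩
        · exact ⟨Nat.lt_succ_of_lt h1, h2⟩
    rw [this, Set.ncard_insert_of_notMem (by simp) ((Set.finite_lt_nat l).subset fun i hi => hi.1)]
  · rw [add_zero]
    congr 1
    ext i
    simp only [Set.mem_setOf_eq]
    constructor
    · rintro ⟨h1, h2⟩
      rcases Nat.lt_succ_iff_lt_or_eq.1 h1 with h3 | h3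
      · exact ⟨h3, h2⟩
      · exact absurd (h3 ▸ h2) h
    · exact fun h => ⟨Nat.lt_succ_of_lt h.1, h.2⟩

theorem jumps_zero (H : ℕ → Subgroup G) : jumps 0 H = 0 := by
  simp [jumps]

theorem relIndex_mul_card {A B : Subgroup G} (h : A ≤ B) :
    A.relIndex B * Nat.card A = Nat.card B := by
  have := Subgroup.relIndex_mul_relIndex (⊥ : Subgroup G) A B bot_le h
  rwa [Subgroup.relIndex_bot_left, Subgroup.relIndex_bot_left, mul_comm] at this

theorem pow_jumps_le [Finite G] {m : ℕ} (hm : ∀ d, d ∣ Nat.card G → d ≠ 1 → m ≤ d) {l : ℕ}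
    {H : ℕ → Subgroup G} (hle : ∀ i < l, H i ≤ H (i + 1)) :
    ∀ j ≤ l, m ^ jumps j H ≤ Nat.card (H j) := by
  intro j
  induction j with
  | zero => intro _; rw [jumps_zero, pow_zero]; exact Nat.card_pos
  | succ j ih =>
    intro hj
    have hj' := hle j (by omega)
    have ih := ih (by omega)
    rw [jumps_succ]
    split_ifs with h
    · rw [pow_succ, ← relIndex_mul_card hj', mul_comm ((H j).relIndex _)]
      refine Nat.mul_le_mul ih (hm _ ?_ ?_)
      · exact (Dvd.intro _ (relIndex_mul_card hj')).trans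
          (Subgroup.card_subgroup_dvd_card _)
      · rw [Ne, Subgroup.relIndex_eq_one]
        exact fun hle' => h (le_antisymm hj' hle')
    · rw [add_zero]
      exact ih.trans (Nat.le_of_dvd Nat.card_pos (Subgroup.card_dvd_of_le hj'))

theorem two_pow_jumps_le [Finite G] {l : ℕ} {H : ℕ → Subgroup G} (hle : ∀ i < l, H i ≤ H (i + 1)) :
    2 ^ jumps l H ≤ Nat.card G := by
  refine (pow_jumps_le (fun d hd h1 => ?_) hle l le_rfl).trans (Subgroup.card_le_card_group _)
  rcases d with _ | _ | d
  · exact absurd (Nat.eq_zero_of_zero_dvd hd) Nat.card_pos.ne'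
  · exact absurd rfl h1
  · omega

theorem bddAbove_jumps [Finite G] :
    BddAbove {k : ℕ | ∃ l H, IsSeries G l H ∧ jumps l H = k} := by
  refine ⟨Nat.card G, ?_⟩
  rintro k ⟨l, H, hS, rfl⟩
  exact (Nat.lt_two_pow_self).le.trans (two_pow_jumps_le hS.le)

theorem jumps_le_clen [Finite G] {l : ℕ} {H : ℕ → Subgroup G} (hS : IsSeries G l H) :
    jumps l H ≤ clen G :=
  le_csSup bddAbove_jumps ⟨l, H, hS, rfl⟩

theorem exists_series (G : Type*) [Group G] : ∃ l H, IsSeries G l H := by
  refine ⟨1, fun i => if i = 0 then ⊥ else ⊤, ⟨by simp, by simp, fun i hi => ?_, fun i hi => ?_⟩⟩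
  · simp [Nat.lt_one_iff.1 hi]
  · have := Nat.lt_one_iff.1 hi
    subst this
    simp only [if_pos]
    rw [Subgroup.bot_subgroupOf]
    infer_instance

theorem clen_le {b : ℕ} (h : ∀ l H, IsSeries G l H → jumps l H ≤ b) : clen G ≤ b := by
  refine csSup_le' ?_
  rintro k ⟨l, H, hS, rfl⟩
  exact h l H hS

theorem le_clen_of_strict [Finite G] {l : ℕ} (H : Fin (l + 1) → Subgroup G) (h0 : H 0 = ⊥)
    (hl : H (Fin.last l) = ⊤)
    (hchain : ∀ i : Fin l, H i.castSucc < H i.succ ∧ ((H i.castSucc).subgroupOf (H i.succ)).Normal) :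
    l ≤ clen G := by
  let K : ℕ → Subgroup G := fun i => if h : i < l + 1 then H ⟨i, h⟩ else ⊤
  have hK : ∀ i : Fin l, K i = H i.castSucc ∧ K (i + 1) = H i.succ := fun i => by
    constructor
    · simp [K, Nat.lt_succ_of_lt i.2]
      rfl
    · simp [K, i.2]
      rfl
  have hS : IsSeries G l K := by
    refine ⟨?_, ?_, fun i hi => ?_, fun i hi => ?_⟩
    · simp only [K, Nat.succ_pos, dif_pos]; exact h0
    · simp only [K, Nat.lt_succ_self, dif_pos]; exact hl
    · obtain ⟨a, b⟩ := hK ⟨i, hi⟩
      simp only at a b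
      rw [a, b]; exact (hchain ⟨i, hi⟩).1.le
    · obtain ⟨a, b⟩ := hK ⟨i, hi⟩
      simp only at a b
      rw [a, b]; exact (hchain ⟨i, hi⟩).2
  have : jumps l K = l := by
    unfold jumps
    convert Nat.card_coe_set_eq (Set.Iio l) |>.symm.trans ?_ using 2
    · ext i
      simp only [Set.mem_setOf_eq, Set.mem_Iio, and_iff_left_iff_imp]
      intro hi
      obtain ⟨a, b⟩ := hK ⟨i, hi⟩
      simp only at a b
      rw [a, b]; exact (hchain ⟨i, hi⟩).1.ne
    · simp
  exact this ▸ jumps_le_clen hS

/-- Splitting a chain along a homomorphism. -/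
theorem jumps_le_add {Q : Type*} [Group Q] (f : G →* Q) {l : ℕ} {H : ℕ → Subgroup G}
    (hle : ∀ i < l, H i ≤ H (i + 1)) :
    jumps l H ≤ jumps l (fun i => (H i).subgroupOf f.ker) + jumps l (fun i => (H i).map f) := by
  unfold jumps
  refine le_trans (Set.ncard_le_ncard ?_ ?_) (Set.ncard_union_le _ _)
  · intro i hi
    obtain ⟨hil, hne⟩ := hi
    by_contra hcon
    simp only [Set.mem_union, Set.mem_setOf_eq, not_or, not_and, not_not] at hcon
    have h1 := hcon.1 hil
    have h2 := hcon.2 hil
    apply hne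
    refine le_antisymm (hle i hil) fun x hx => ?_
    obtain ⟨y, hy, hyx⟩ : f x ∈ (H i).map f := h2 ▸ Subgroup.mem_map_of_mem f hx
    have hk : y⁻¹ * x ∈ f.ker := by rw [MonoidHom.mem_ker, map_mul, map_inv, hyx, inv_mul_cancel]
    have : (⟨y⁻¹ * x, hk⟩ : f.ker) ∈ (H i).subgroupOf f.ker := by
      rw [h1, Subgroup.mem_subgroupOf]
      exact mul_mem (inv_mem (hle i hil hy)) hx
    rw [Subgroup.mem_subgroupOf] at this
    simpa using mul_mem hy this
  · exact ((Set.finite_lt_nat l).subset fun i hi => hi.1).union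
      ((Set.finite_lt_nat l).subset fun i hi => hi.1)

theorem normal_subgroupOf_comap {A : Type*} [Group A] (f : A →* G) {K L : Subgroup G}
    (h : (K.subgroupOf L).Normal) : ((K.comap f).subgroupOf (L.comap f)).Normal := by
  refine ⟨fun n hn g => ?_⟩
  simp only [Subgroup.mem_subgroupOf, Subgroup.mem_comap, Subgroup.coe_mul, Subgroup.coe_inv,
    map_mul, map_inv] at hn ⊢
  exact h.conj_mem ⟨f n, n.2⟩ hn ⟨f g, g.2⟩

theorem normal_subgroupOf_map {Q : Type*} [Group Q] (f : G →* Q) {K L : Subgroup G} (hKL : K ≤ L)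
    (h : (K.subgroupOf L).Normal) : ((K.map f).subgroupOf (L.map f)).Normal := by
  refine ⟨fun n hn g => ?_⟩
  rw [Subgroup.mem_subgroupOf] at hn ⊢
  obtain ⟨a, ha, han⟩ := hn
  obtain ⟨b, hb, hbg⟩ := g.2
  refine ⟨b * a * b⁻¹, ?_, by simp [han, hbg]⟩
  exact h.conj_mem ⟨a, hKL ha⟩ ha ⟨b, hb⟩

/-- Exact sequences: the composition length is subadditive. -/
theorem clen_le_add_range [Finite G] {Q : Type*} [Group Q] (f : G →* Q) :
    clen G ≤ clen f.ker + clen f.range := by
  have : Finite f.range := Finite.of_surjective _ f.rangeRestrict_surjective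
  refine clen_le fun l H hS => ?_
  refine (jumps_le_add f.rangeRestrict hS.le).trans (Nat.add_le_add ?_ ?_)
  · rw [MonoidHom.ker_rangeRestrict]
    refine jumps_le_clen ⟨?_, ?_, fun i hi => ?_, fun i hi => ?_⟩
    · simp [hS.bot]
    · simp [hS.top]
    · exact Subgroup.comap_mono (hS.le i hi)
    · exact normal_subgroupOf_comap _ (hS.normal i hi)
  · refine jumps_le_clen ⟨?_, ?_, fun i hi => ?_, fun i hi => ?_⟩
    · simp [hS.bot]
    · show (H l).map f.rangeRestrict = ⊤
      rw [hS.top]; exact Subgroup.map_top_of_surjective _ f.rangeRestrict_surjective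
    · exact Subgroup.map_mono (hS.le i hi)
    · exact normal_subgroupOf_map _ (hS.le i hi) (hS.normal i hi)

theorem jumps_map {Q : Type*} [Group Q] (f : G →* Q) (hf : Function.Injective f) {l : ℕ}
    (H : ℕ → Subgroup G) : jumps l (fun i => (H i).map f) = jumps l H := by
  unfold jumps
  congr 1
  ext i
  simp [(Subgroup.map_injective hf).eq_iff]

/-- A normal subgroup has at most the composition length of the group. -/
theorem clen_le_of_injective_normal [Finite G] {A : Type*} [Group A] (f : A →* G)
    (hf : Function.Injective f) (hn : f.range.Normal) : clen A ≤ clen G := by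
  refine clen_le fun l H hS => ?_
  let K : ℕ → Subgroup G := fun i => if i ≤ l then (H i).map f else ⊤
  have hK : ∀ i < l, K i = (H i).map f ∧ K (i + 1) = (H (i + 1)).map f := fun i hi =>
    ⟨if_pos hi.le, if_pos hi⟩
  have hKl : K l = f.range := by
    simp only [K, le_refl, if_true, hS.top, MonoidHom.range_eq_map]
  have hKl1 : K (l + 1) = ⊤ := if_neg (by omega)
  have hKS : IsSeries G (l + 1) K := by
    refine ⟨by simp [K, hS.bot], hKl1, fun i hi => ?_, fun i hi => ?_⟩
    · rcases Nat.lt_succ_iff_lt_or_eq.1 hi with h | rfl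
      · rw [(hK i h).1, (hK i h).2]; exact Subgroup.map_mono (hS.le i h)
      · rw [hKl1]; exact le_top
    · rcases Nat.lt_succ_iff_lt_or_eq.1 hi with h | rfl
      · rw [(hK i h).1, (hK i h).2]; exact normal_subgroupOf_map _ (hS.le i h) (hS.normal i h)
      · rw [hKl, hKl1]
        exact Subgroup.Normal.subgroupOf hn _
  have he : jumps l K = jumps l H := by
    rw [← jumps_map f hf H]
    unfold jumps
    congr 1
    ext i
    constructor
    · rintro ⟨h1, h2⟩; exact ⟨h1, by simpa [(hK i h1).1, (hK i h1).2] using h2⟩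
    · rintro ⟨h1, h2⟩; exact ⟨h1, by simpa [(hK i h1).1, (hK i h1).2] using h2⟩
  have := jumps_le_clen hKS
  rw [jumps_succ, he] at this
  omega

theorem clen_le_of_normal [Finite G] (N : Subgroup G) [hN : N.Normal] : clen N ≤ clen G :=
  clen_le_of_injective_normal N.subtype N.subtype_injective (by rwa [Subgroup.range_subtype])

/-- Quotients have at most the composition length of the group. -/
theorem clen_le_of_surjective [Finite G] {Q : Type*} [Group Q] (f : G →* Q)
    (hf : Function.Surjective f) : clen Q ≤ clen G := by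
  refine clen_le fun l H hS => ?_
  let K : ℕ → Subgroup G := fun i => if i = 0 then ⊥ else (H (i - 1)).comap f
  have hKs : ∀ i, K (i + 1) = (H i).comap f := fun i => by simp [K]
  have hKS : IsSeries G (l + 1) K := by
    refine ⟨by simp [K], by rw [hKs, hS.top, Subgroup.comap_top], fun i hi => ?_, fun i hi => ?_⟩
    · rcases Nat.eq_zero_or_pos i with rfl | h
      · simp [K]
      · obtain ⟨j, rfl⟩ : ∃ j, i = j + 1 := ⟨i - 1, by omega⟩
        rw [hKs, hKs]; exact Subgroup.comap_mono (hS.le j (by omega))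
    · rcases Nat.eq_zero_or_pos i with rfl | h
      · rw [show K 0 = ⊥ from if_pos rfl, Subgroup.bot_subgroupOf]; infer_instance
      · obtain ⟨j, rfl⟩ : ∃ j, i = j + 1 := ⟨i - 1, by omega⟩
        rw [hKs, hKs]; exact normal_subgroupOf_comap _ (hS.normal j (by omega))
  refine le_trans ?_ (jumps_le_clen hKS)
  unfold jumps
  refine Set.ncard_le_ncard_of_injOn (fun i => i + 1) ?_ (fun a _ b _ h => Nat.succ.inj h)
    ((Set.finite_lt_nat (l + 1)).subset fun i hi => hi.1)
  rintro i ⟨h1, h2⟩
  refine ⟨Nat.succ_lt_succ h1, ?_⟩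
  rw [hKs, hKs]
  exact (Subgroup.comap_injective hf).ne h2

theorem clen_congr [Finite G] {Q : Type*} [Group Q] (e : G ≃* Q) : clen G = clen Q := by
  have : Finite Q := Finite.of_equiv G e.toEquiv
  exact le_antisymm (clen_le_of_surjective e.symm.toMonoidHom e.symm.surjective)
    (clen_le_of_surjective e.toMonoidHom e.surjective)

/-- Subadditivity for a surjection. -/
theorem clen_le_add [Finite G] (N : Subgroup G) {Q : Type*} [Group Q] (f : G →* Q)
    (hker : f.ker = N) : clen G ≤ clen N + clen f.range :=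
  hker ▸ clen_le_add_range f

theorem clen_eq_zero_of_subsingleton [Subsingleton G] : clen G = 0 := by
  refine Nat.le_zero.1 (clen_le fun l H _ => ?_)
  unfold jumps
  rw [show {i | i < l ∧ H i ≠ H (i + 1)} = ∅ from
    Set.eq_empty_of_forall_notMem fun i hi => hi.2 (Subsingleton.elim _ _), Set.ncard_empty]

theorem clen_le_one_of_isSimpleGroup [IsSimpleGroup G] : clen G ≤ 1 := by
  refine clen_le fun l H hS => ?_
  -- the last proper term is normal in the whole group, hence trivial
  have key : ∀ j ≤ l, H j = ⊤ → jumps j H ≤ 1 := by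
    intro j
    induction j with
    | zero => intro _ _; rw [jumps_zero]; omega
    | succ j ih =>
      intro hj ht
      rw [jumps_succ]
      by_cases h : H j = H (j + 1)
      · rw [if_neg (not_not.2 h), add_zero]
        exact ih (by omega) (h.trans ht)
      · rw [if_pos h]
        have hn := hS.normal j (by omega)
        rw [ht, Subgroup.normal_subgroupOf_iff le_top] at hn
        have hN : (H j).Normal := ⟨fun x hx g => hn x g hx trivial⟩
        rcases hN.eq_bot_or_eq_top with e | e
        · have : jumps j H = 0 := by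
            unfold jumps
            rw [Set.ncard_eq_zero ((Set.finite_lt_nat j).subset fun i hi => hi.1)]
            refine Set.eq_empty_of_forall_notMem fun i hi => hi.2 ?_
            have mono : ∀ a b, a ≤ b → b ≤ j → H a ≤ H b := by
              intro a b hab
              induction b, hab using Nat.le_induction with
              | base => exact fun _ => le_rfl
              | succ b hb ihb => exact fun hbj => (ihb (by omega)).trans (hS.le b (by omega))
            have a1 := mono i j hi.1.le le_rfl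
            have a2 := mono (i + 1) j hi.1 le_rfl
            rw [e, le_bot_iff] at a1 a2
            rw [a1, a2]
          omega
        · exact absurd (e.trans ht.symm) h
  exact key l le_rfl hS.top

theorem two_pow_clen_le_card [Finite G] : 2 ^ clen G ≤ Nat.card G := by
  obtain ⟨l, H, hS, hk⟩ : clen G ∈ {k : ℕ | ∃ l H, IsSeries G l H ∧ jumps l H = k} :=
    Nat.sSup_mem (by obtain ⟨l, H, hS⟩ := exists_series G; exact ⟨_, l, H, hS, rfl⟩) bddAbove_jumps
  exact hk ▸ two_pow_jumps_le hS.le

theorem pow_clen_le_card [Finite G] {m : ℕ} (hm : ∀ d, d ∣ Nat.card G → d ≠ 1 → m ≤ d) :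
    m ^ clen G ≤ Nat.card G := by
  obtain ⟨l, H, hS, hk⟩ : clen G ∈ {k : ℕ | ∃ l H, IsSeries G l H ∧ jumps l H = k} :=
    Nat.sSup_mem (by obtain ⟨l, H, hS⟩ := exists_series G; exact ⟨_, l, H, hS, rfl⟩) bddAbove_jumps
  exact hk ▸ (pow_jumps_le hm hS.le l le_rfl).trans (Subgroup.card_le_card_group _)

theorem clen_le_of_isPGroup [Finite G] {p d : ℕ} [hp : Fact p.Prime] (h : Nat.card G = p ^ d) :
    clen G ≤ d := by
  refine (Nat.pow_le_pow_iff_right hp.out.one_lt).1 (h ▸ pow_clen_le_card fun e he he1 => ?_)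
  rw [h, Nat.dvd_prime_pow hp.out] at he
  obtain ⟨i, -, rfl⟩ := he
  refine Nat.le_self_pow ?_ p
  rintro rfl
  exact he1 (pow_zero p)

theorem cardFactors_bound [Finite G] {l : ℕ} {H : ℕ → Subgroup G} (hle : ∀ i < l, H i ≤ H (i + 1)) :
    ∀ j ≤ l, jumps j H ≤ ArithmeticFunction.cardFactors (Nat.card (H j)) := by
  intro j
  induction j with
  | zero => intro _; rw [jumps_zero]; omega
  | succ j ih =>
    intro hj
    have hj' := hle j (by omega)
    have ih := ih (by omega)
    rw [jumps_succ, ← relIndex_mul_card hj',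
      ArithmeticFunction.cardFactors_mul (left_ne_zero_of_mul
        ((relIndex_mul_card hj').trans_ne Nat.card_pos.ne')) Nat.card_pos.ne']
    split_ifs with h
    · have : ArithmeticFunction.cardFactors ((H j).relIndex (H (j + 1))) ≠ 0 := by
        rw [Ne, ArithmeticFunction.cardFactors_eq_zero_iff_eq_zero_or_one, not_or]
        refine ⟨left_ne_zero_of_mul
          ((relIndex_mul_card hj').trans_ne Nat.card_pos.ne'), ?_⟩
        rw [Subgroup.relIndex_eq_one]
        exact fun hle' => h (le_antisymm hj' hle')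
      omega
    · omega

theorem clen_le_cardFactors [Finite G] : clen G ≤ ArithmeticFunction.cardFactors (Nat.card G) :=
  clen_le fun l H hS => by
    have := cardFactors_bound hS.le l le_rfl
    rwa [hS.top, Subgroup.card_top] at this

end

end Cfsg.Agent.CompLen
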