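import Cfsg.Agent.Lib.CompLen.Factors
import Cfsg.Agent.Lib.CompLen.Affine
import Cfsg.Agent.Lib.Cores.Subnormal
import Cfsg.Agent.Lib.Perm.Regular

/-!
# Composition length of permutation groups

* `three_mul_clen_add_four_mul_orbs_le`: a group acting faithfully on n points with r orbits has
  composition length at most 4 (n - r) / 3 (no use of the classification).
-/

namespace Cfsg.Agent.CompLen

open MulAction
open scoped Pointwise

set_option autoImplicit false

universe u v

/-- The number of orbits. -/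
noncomputable def orbs (G : Type u) (X : Type v) [Group G] [MulAction G X] : ℕ :=
  Nat.card (orbitRel.Quotient G X)

/-- The bound for permutation groups of degree m. -/
def Bound (m : ℕ) : Prop :=
  ∀ P : Subgroup (Equiv.Perm (Fin m)), 3 * clen P + 4 * orbs P (Fin m) ≤ 4 * m

theorem one_le_orbs {G : Type u} {X : Type v} [Group G] [MulAction G X] [Finite X] [Nonempty X] :
    1 ≤ orbs G X := by
  have : Nonempty (orbitRel.Quotient G X) := ⟨Quotient.mk'' (Classical.arbitrary X)⟩
  exact Nat.card_pos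

theorem bound_action {G : Type u} {X : Type v} [Group G] [Finite G] [MulAction G X] [Finite X]
    (h : Bound (Nat.card X)) :
    3 * clen (toPermHom G X).range + 4 * orbs G X ≤ 4 * Nat.card X := by
  let e : X ≃ Fin (Nat.card X) := Finite.equivFin X
  let P : Subgroup (Equiv.Perm (Fin (Nat.card X))) :=
    (toPermHom G X).range.map e.permCongrHom.toMonoidHom
  have hc : clen (toPermHom G X).range = clen P :=
    clen_congr ((toPermHom G X).range.equivMapOfInjective _ e.permCongrHom.injective)
  have ho : orbs P (Fin (Nat.card X)) ≥ orbs G X := by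
    refine Nat.card_le_card_of_surjective
      (Quotient.map' (s₁ := orbitRel P (Fin (Nat.card X))) (s₂ := orbitRel G X) e.symm ?_) ?_
    · rintro i j ⟨⟨_, ⟨_, ⟨g, rfl⟩, rfl⟩⟩, hg⟩
      refine ⟨g, ?_⟩
      have hg' : e (g • e.symm j) = i := hg
      show g • e.symm j = e.symm i
      rw [← hg', Equiv.symm_apply_apply]
    · intro q
      induction q using Quotient.inductionOn' with
      | h x => exact ⟨Quotient.mk'' (e x), congrArg Quotient.mk'' (e.symm_apply_apply x)⟩
  have := h P
  omega

theorem bound_perm {Y : Type v} [Finite Y] [Nonempty Y] (P : Subgroup (Equiv.Perm Y))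
    (h : Bound (Nat.card Y)) : 3 * clen P + 4 ≤ 4 * Nat.card Y := by
  have h1 := bound_action (G := P) (X := Y) h
  have h2 : clen (toPermHom P Y).range = clen P := by
    refine (clen_congr (MonoidHom.ofInjective ?_)).symm
    intro a b hab
    exact Subtype.ext (Equiv.ext fun y => Equiv.ext_iff.1 hab y)
  have := one_le_orbs (G := P) (X := Y)
  omega

theorem clen_range_le_of_ker_le {G A B : Type*} [Group G] [Finite G] [Group A] [Group B]
    (f : G →* A) (g : G →* B) (h : g.ker ≤ f.ker) : clen f.range ≤ clen g.range := by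
  have : Finite g.range := Finite.of_surjective _ g.rangeRestrict_surjective
  have hh : g.rangeRestrict.ker ≤ f.rangeRestrict.ker := by
    simpa only [MonoidHom.ker_rangeRestrict] using h
  refine clen_le_of_surjective
    (g.rangeRestrict.liftOfSurjective g.rangeRestrict_surjective ⟨f.rangeRestrict, hh⟩) ?_
  intro a
  obtain ⟨x, rfl⟩ := f.rangeRestrict_surjective a
  exact ⟨g.rangeRestrict x, MonoidHom.liftOfRightInverse_comp_apply _ _ _ _ _⟩

/-! ### Arithmetic -/

theorem two_mul_le_pow {b : ℕ} (hb : 4 ≤ b) : ∀ k, 2 ≤ k → 2 * k ≤ b ^ (k - 1) := by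
  intro k hk
  induction k, hk using Nat.le_induction with
  | base => norm_num; omega
  | succ k hk ih =>
    rw [Nat.add_sub_cancel, show k = k - 1 + 1 by omega, pow_succ]
    have := Nat.mul_le_mul ih hb
    omega

theorem count_numeric {o b j r n : ℕ} (hj : 2 ≤ j) (h1 : o * 3 ^ (j - 1) ≤ n)
    (h2 : r = 0 ∨ (o = b ∧ 4 ≤ b ∧ b ^ r ≤ n)) : o * (j + r) ≤ n := by
  have hj1 : 2 * j - 1 ≤ 3 ^ (j - 1) := by
    clear h1
    induction j, hj using Nat.le_induction with
    | base => norm_num
    | succ j hj ih =>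
      rw [Nat.add_sub_cancel, show j = j - 1 + 1 by omega, pow_succ]
      omega
  rcases le_or_gt (j + r) (3 ^ (j - 1)) with h | h
  · exact (Nat.mul_le_mul_left o h).trans h1
  · rcases h2 with rfl | ⟨rfl, hb, hr⟩
    · exfalso; omega
    · refine le_trans ?_ hr
      have hr2 : 2 ≤ r := by omega
      have h3 : j + r ≤ 2 * r := by omega
      have h4 : j + r ≤ o ^ (r - 1) := h3.trans (two_mul_le_pow hb r hr2)
      conv_rhs => rw [show r = r - 1 + 1 by omega, pow_succ']
      exact Nat.mul_le_mul_left o h4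

/-! ### Facts on one factor -/

section Factor

variable {G : Type u} [Group G] [Finite G] {X : Type v} [MulAction G X]
variable {N : Subgroup G} {s : Finset (Subgroup G)} (hs : IsFactorSet N s)
include hs

theorem four_le_card {T : Subgroup G} (hT : T ∈ s) : 4 ≤ Nat.card T := by
  by_contra h
  have hT0 := hs.simple T hT
  have h1 : 1 < Nat.card T := Finite.one_lt_card
  have hp : (Nat.card T).Prime := by
    have : Nat.card T = 2 ∨ Nat.card T = 3 := by omega
    rcases this with e | e <;> rw [e] <;> decide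
  have := Fact.mk hp
  have := isCyclic_of_prime_card (α := T) rfl
  exact hs.nonabelian T hT IsCyclic.isMulCommutative

theorem normalizer_ge {T : Subgroup G} (hT : T ∈ s) : N ≤ Subgroup.normalizer (T : Set G) := by
  conv_lhs => rw [← hs.gen]
  refine Finset.sup_le fun U hU => ?_
  by_cases e : U = T
  · subst e; exact Subgroup.le_normalizer
  · intro u hu
    rw [Subgroup.mem_normalizer_iff]
    intro x
    refine ⟨fun hx => ?_, fun hx => ?_⟩
    · rwa [hs.commute U hU T hT e u hu x hx, mul_inv_cancel_right]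
    · have h := hs.commute U hU T hT e u hu _ hx
      have h' : x = u * x * u⁻¹ := by
        have h2 := congrArg (fun z => u⁻¹ * z) h
        simpa [mul_assoc] using h2.symm
      rwa [← h'] at hx

theorem le_sup_centralizer {T : Subgroup G} (hT : T ∈ s) :
    N ≤ T ⊔ Subgroup.centralizer (T : Set G) := by
  conv_lhs => rw [← hs.gen]
  refine Finset.sup_le fun U hU => ?_
  by_cases e : U = T
  · subst e; exact le_sup_left
  · exact fun u hu => Subgroup.mem_sup_right (fun t ht => (hs.commute U hU T hT e u hu t ht).symm)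

theorem eq_bot_or_eq_of_normal_in {T U : Subgroup G} (hT : T ∈ s) (hU : U ≤ T)
    (h : ∀ t ∈ T, ∀ x ∈ U, t * x * t⁻¹ ∈ U) : U = ⊥ ∨ U = T := by
  have := hs.simple T hT
  have hn : (U.subgroupOf T).Normal := ⟨fun x hx t => h t t.2 x hx⟩
  rcases hn.eq_bot_or_eq_top with e | e
  · left
    rw [Subgroup.subgroupOf_eq_bot] at e
    exact eq_bot_iff.2 (by simpa [inf_of_le_left hU] using e.le_bot)
  · right
    exact le_antisymm hU (Subgroup.subgroupOf_eq_top.1 e)

/-- No factor fixes a point when `N` is transitive. -/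
theorem not_fix [FaithfulSMul G X] (htr : ∀ x y : X, ∃ n ∈ N, n • x = y) {T : Subgroup G}
    (hT : T ∈ s) (a : X) : ¬ ∀ t ∈ T, t • a = a := by
  intro h
  have := hs.simple T hT
  have hne : T ≠ ⊥ := (Subgroup.nontrivial_iff_ne_bot T).1 inferInstance
  refine hne ((Subgroup.eq_bot_iff_forall T).2 fun t ht => ?_)
  refine eq_of_smul_eq_smul (α := X) fun x => ?_
  obtain ⟨n, hn, rfl⟩ := htr a x
  have h1 := (Subgroup.mem_normalizer_iff.1 (normalizer_ge hs hT (inv_mem hn)) t).1 ht
  have h2 := h _ h1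
  rw [inv_inv, mul_smul, mul_smul] at h2
  rw [one_smul]
  exact inv_smul_eq_iff.1 h2

/-- The automorphisms induced on a factor act on its orbit. -/
theorem clen_aut_le_of_orbit [FaithfulSMul G X] [Finite X] (htr : ∀ x y : X, ∃ n ∈ N, n • x = y)
    {T : Subgroup G} (hT : T ∈ s) (a : X) (hB : Bound (Nat.card (orbit T a))) :
    3 * clen T.normalizerMonoidHom.range + 4 ≤ 4 * Nat.card (orbit T a) := by
  let H : Subgroup G := T ⊔ (stabilizer G a ⊓ Subgroup.normalizer (T : Set G))
  have hHn : H ≤ Subgroup.normalizer (T : Set G) := sup_le Subgroup.le_normalizer inf_le_right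
  have hHB : H ≤ stabilizer G (orbit T a) := by
    refine sup_le (fun t ht => ?_) (fun y hy => ?_)
    · rw [mem_stabilizer_iff]
      exact smul_orbit (⟨t, ht⟩ : T) a
    · obtain ⟨hy1, hy2⟩ := hy
      have hsub : ∀ z ∈ (stabilizer G a ⊓ Subgroup.normalizer (T : Set G) : Subgroup G),
          ∀ x ∈ orbit T a, z • x ∈ orbit T a := by
        rintro z ⟨hz1, hz2⟩ x ⟨t, rfl⟩
        refine ⟨⟨z * t * z⁻¹, (Subgroup.mem_normalizer_iff.1 hz2 t).1 t.2⟩, ?_⟩
        show (z * (t : G) * z⁻¹) • a = z • (t : G) • a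
        rw [mul_smul, mul_smul, mem_stabilizer_iff.1 (inv_mem hz1)]
      rw [mem_stabilizer_iff]
      refine Set.Subset.antisymm ?_ fun x hx => ?_
      · rintro _ ⟨x, hx, rfl⟩
        exact hsub y ⟨hy1, hy2⟩ x hx
      · exact ⟨y⁻¹ • x, hsub y⁻¹ (inv_mem ⟨hy1, hy2⟩) x hx, smul_inv_smul y x⟩
  have hmem : ∀ h : H, ∀ x : X, (h : G) • x ∈ orbit T a ↔ x ∈ orbit T a := fun h x => by
    conv_lhs => rw [← mem_stabilizer_iff.1 (hHB h.2)]
    exact Set.smul_mem_smul_set_iff
  let f : H →* Equiv.Perm (orbit T a) :=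
    { toFun := fun h => (toPerm (h : G)).subtypePerm (hmem h)
      map_one' := Equiv.ext fun x => Subtype.ext (one_smul G x.1)
      map_mul' := fun g h => Equiv.ext fun x => Subtype.ext (mul_smul (g : G) h x.1) }
  let φ : H →* MulAut T := T.normalizerMonoidHom.comp (Subgroup.inclusion hHn)
  have hker : f.ker ≤ φ.ker := by
    intro h hh
    have hfix : ∀ x ∈ orbit T a, (h : G) • x = x := fun x hx =>
      congrArg Subtype.val (Equiv.ext_iff.1 hh ⟨x, hx⟩)
    let U : Subgroup G := T ⊓ fixingSubgroup G (orbit T a)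
    have hU : U = ⊥ := by
      rcases eq_bot_or_eq_of_normal_in hs hT (U := U) inf_le_left (fun t ht x hx => by
        refine Subgroup.mem_inf.2 ⟨mul_mem (mul_mem ht hx.1) (inv_mem ht), ?_⟩
        rw [mem_fixingSubgroup_iff]
        intro y hy
        have h' : x • t⁻¹ • y = t⁻¹ • y := (mem_fixingSubgroup_iff G).1 hx.2 _
          (mem_orbit_of_mem_orbit (⟨t⁻¹, inv_mem ht⟩ : T) hy)
        rw [mul_smul, mul_smul, h', smul_inv_smul]) with e | e
      · exact e
      · exfalso
        refine not_fix hs htr hT a fun t ht => ?_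
        have : t ∈ U := e.symm ▸ ht
        exact (mem_fixingSubgroup_iff G).1 this.2 a (mem_orbit_self a)
    rw [MonoidHom.mem_ker]
    refine MulEquiv.ext fun t => Subtype.ext ?_
    show (h : G) * (t : G) * (h : G)⁻¹ = t
    have hu : (h : G) * t * (h : G)⁻¹ * (t : G)⁻¹ ∈ U := by
      refine Subgroup.mem_inf.2 ⟨mul_mem ((Subgroup.mem_normalizer_iff.1 (hHn h.2) _).1 t.2) (inv_mem t.2), ?_⟩
      rw [mem_fixingSubgroup_iff]
      intro y hy
      have hy1 : ((t : G)⁻¹) • y ∈ orbit T a := mem_orbit_of_mem_orbit (⟨_, inv_mem t.2⟩ : T) hy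
      have hy2 : (h : G)⁻¹ • (t : G)⁻¹ • y = (t : G)⁻¹ • y := inv_smul_eq_iff.2 (hfix _ hy1).symm
      rw [mul_smul, mul_smul, mul_smul, hy2, smul_inv_smul, hfix y hy]
    rw [hU, Subgroup.mem_bot, mul_inv_eq_one] at hu
    exact hu
  have hrange : φ.range = T.normalizerMonoidHom.range := by
    refine le_antisymm (by rintro _ ⟨x, rfl⟩; exact ⟨_, rfl⟩) ?_
    rintro _ ⟨⟨g, hg⟩, rfl⟩
    obtain ⟨n, hn, y, hy, rfl⟩ := exists_mem_mul_stabilizer N a (fun x => htr a x) g
    have hyn : y ∈ Subgroup.normalizer (T : Set G) := by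
      simpa using mul_mem (inv_mem (normalizer_ge hs hT hn)) hg
    have hy' : y ∈ H := Subgroup.mem_sup_right ⟨hy, hyn⟩
    have hW : ∀ m : G, m ∈ T ⊔ Subgroup.centralizer (T : Set G) →
        ∃ hm : m ∈ Subgroup.normalizer (T : Set G), T.normalizerMonoidHom ⟨m, hm⟩ ∈ φ.range := by
      intro m hm
      have hle : T ⊔ Subgroup.centralizer (T : Set G) ≤
          ((φ.range).comap T.normalizerMonoidHom).map (Subgroup.normalizer (T : Set G)).subtype := by
        refine sup_le (fun t ht => ?_) (fun c hc => ?_)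
        · exact ⟨⟨t, Subgroup.le_normalizer ht⟩, ⟨⟨t, Subgroup.mem_sup_left ht⟩, rfl⟩, rfl⟩
        · have hcn : c ∈ Subgroup.normalizer (T : Set G) := by
            rw [Subgroup.mem_normalizer_iff]
            intro x
            refine ⟨fun hx => ?_, fun hx => ?_⟩
            · rwa [← hc x hx, mul_inv_cancel_right]
            · have h := hc _ hx
              have h' : x = c * x * c⁻¹ := by
                have h2 := congrArg (fun z => c⁻¹ * z) h
                simpa [mul_assoc] using h2
              rwa [← h'] at hx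
          refine ⟨⟨c, hcn⟩, ?_, rfl⟩
          have h1 : (⟨c, hcn⟩ : Subgroup.normalizer (T : Set G)) ∈ T.normalizerMonoidHom.ker := by
            rw [Subgroup.normalizerMonoidHom_ker]; exact hc
          show T.normalizerMonoidHom ⟨c, hcn⟩ ∈ φ.range
          rw [MonoidHom.mem_ker.1 h1]
          exact one_mem _
      obtain ⟨⟨m', hm'⟩, h1, rfl⟩ := hle hm
      exact ⟨hm', h1⟩
    obtain ⟨hnn, hnr⟩ := hW n (le_sup_centralizer hs hT hn)
    have h3 : T.normalizerMonoidHom ⟨n * y, hg⟩ =
        T.normalizerMonoidHom ⟨n, hnn⟩ * φ ⟨y, hy'⟩ := by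
      show _ = T.normalizerMonoidHom ⟨n, hnn⟩ * T.normalizerMonoidHom ⟨y, hyn⟩
      rw [← map_mul]
      rfl
    rw [h3]
    exact mul_mem hnr ⟨_, rfl⟩
  have h1 := clen_range_le_of_ker_le φ f hker
  rw [hrange] at h1
  have : Nonempty (orbit T a) := ⟨⟨a, mem_orbit_self a⟩⟩
  have h2 := bound_perm f.range hB
  omega

/-- The automorphisms induced on a factor act on its Sylow subgroups. -/
theorem clen_aut_le_of_sylow {T : Subgroup G} (hT : T ∈ s)
    (hB : ∀ m, 2 * m ≤ Nat.card T → Bound m) :
    3 * clen T.normalizerMonoidHom.range + 4 ≤ 2 * Nat.card T := by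
  have := hs.simple T hT
  set p := (Nat.card T).minFac with hp'
  have hT1 : Nat.card T ≠ 1 := Finite.one_lt_card.ne'
  have hp : Fact p.Prime := ⟨Nat.minFac_prime hT1⟩
  have hpd : p ∣ Nat.card T := Nat.minFac_dvd _
  let A := T.normalizerMonoidHom.range
  have hP : ∀ P : Sylow p T, (P : Subgroup T) ≠ ⊥ := fun P h => by
    have h1 := P.dvd_card_of_dvd_card hpd
    rw [h, Subgroup.card_bot] at h1
    exact hp.out.not_dvd_one h1
  have hnotnormal : ∀ P : Sylow p T, ¬ (P : Subgroup T).Normal := fun P hN => by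
    rcases hN.eq_bot_or_eq_top with e | e
    · exact hP P e
    · have hpT : IsPGroup p T := fun x => by
        obtain ⟨k, hk⟩ := P.2 ⟨x, e ▸ Subgroup.mem_top x⟩
        exact ⟨k, congrArg Subtype.val hk⟩
      have := hpT.center_nontrivial
      obtain ⟨z, hz⟩ := exists_ne (1 : Subgroup.center T)
      refine hz (Subtype.ext (Subtype.ext (hs.center_eq_bot hT z.1.2 fun y hy => ?_)))
      exact (congrArg Subtype.val (Subgroup.mem_center_iff.1 z.2 ⟨y, hy⟩)).symm
  let inn : T →* A := (T.normalizerMonoidHom.comp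
    (Subgroup.inclusion Subgroup.le_normalizer)).codRestrict _ (fun t => ⟨_, rfl⟩)
  have hinn : ∀ t : T, ((inn t : A) : MulAut T) = MulAut.conj t := fun t => by
    refine MulEquiv.ext fun x => Subtype.ext ?_
    rfl
  have hinj : Function.Injective (toPermHom A (Sylow p T)) := by
    rw [← MonoidHom.ker_eq_bot_iff, Subgroup.eq_bot_iff_forall]
    intro k hk
    have hV : (toPermHom A (Sylow p T)).ker.comap inn = ⊥ := by
      rcases ((MonoidHom.normal_ker (toPermHom A (Sylow p T))).comap inn).eq_bot_or_eq_top with e | e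
      · exact e
      · exfalso
        obtain ⟨P⟩ : Nonempty (Sylow p T) := inferInstance
        refine hnotnormal P ⟨fun x hx t => ?_⟩
        have h1 : inn t ∈ (toPermHom A (Sylow p T)).ker :=
          (e ▸ Subgroup.mem_top t : t ∈ (toPermHom A (Sylow p T)).ker.comap inn)
        have h2 : inn t • P = P := Equiv.ext_iff.1 h1 P
        have h3 : ((inn t : A) : MulAut T) x ∈ ((inn t • P : Sylow p T) : Subgroup T) :=
          Subgroup.smul_mem_pointwise_smul x (inn t) _ hx
        rw [h2, hinn] at h3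
        exact h3
    refine Subtype.ext (MulEquiv.ext fun t => ?_)
    have h1 : inn ((k : MulAut T) t * t⁻¹) = k * inn t * k⁻¹ * (inn t)⁻¹ := by
      refine Subtype.ext (MulEquiv.ext fun x => ?_)
      rw [hinn]
      show _ = (k : MulAut T) (((inn t : A) : MulAut T)
        ((k : MulAut T)⁻¹ (((inn t : A) : MulAut T)⁻¹ x)))
      rw [hinn]
      simp only [MulAut.mul_apply, MulAut.conj_apply, MulAut.conj_inv_apply, map_mul, map_inv,
        MulAut.apply_inv_self, mul_inv_rev, inv_inv]
    have h2 : inn ((k : MulAut T) t * t⁻¹) ∈ (toPermHom A (Sylow p T)).ker := by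
      rw [h1, mul_assoc, mul_assoc]
      refine mul_mem hk ?_
      rw [← mul_assoc]
      exact (MonoidHom.normal_ker _).conj_mem _ (inv_mem hk) _
    have h3 : (k : MulAut T) t * t⁻¹ ∈ (toPermHom A (Sylow p T)).ker.comap inn := h2
    rw [hV, Subgroup.mem_bot, mul_inv_eq_one] at h3
    exact h3
  have hcard : 2 * Nat.card (Sylow p T) ≤ Nat.card T := by
    obtain ⟨P⟩ : Nonempty (Sylow p T) := inferInstance
    rw [P.card_eq_index_normalizer, ← Subgroup.index_mul_card (Subgroup.normalizer ((P : Subgroup T) : Set T)),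
      mul_comm]
    refine Nat.mul_le_mul_left _ ?_
    refine le_trans ?_ (Subgroup.card_le_of_le Subgroup.le_normalizer (H := (P : Subgroup T)))
    have := (Subgroup.one_lt_card_iff_ne_bot (P : Subgroup T)).2 (hP P)
    omega
  have h1 := bound_action (G := A) (X := Sylow p T) (hB _ hcard)
  have h2 : clen A = clen (toPermHom A (Sylow p T)).range :=
    clen_congr (MonoidHom.ofInjective hinj)
  have h3 := one_le_orbs (G := A) (X := Sylow p T)
  show 3 * clen A + 4 ≤ _
  omega

end Factor

/-! ### The groups -/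

section Main

variable {G : Type u} [Group G] [Finite G] {X : Type v} [MulAction G X] [FaithfulSMul G X]
  [Finite X] {n : ℕ}

theorem clen_eq_range : clen G = clen (toPermHom G X).range :=
  clen_congr (MonoidHom.ofInjective toPerm_injective)

theorem ker_bound (IH : ∀ m < n, Bound m) {K : Subgroup G} (Y : Set X)
    (hinv : ∀ k ∈ K, ∀ y ∈ Y, k • y ∈ Y) (hfix : ∀ k ∈ K, ∀ x ∉ Y, k • x = x)
    (hY : Nat.card Y < n) :
    ∃ (_ : MulAction K Y), (∀ (k : K) (y : Y), ((k • y : Y) : X) = (k : G) • (y : X)) ∧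
      3 * clen K + 4 * orbs K Y ≤ 4 * Nat.card Y := by
  let act : MulAction K Y :=
    { smul := fun k y => ⟨(k : G) • (y : X), hinv k k.2 y y.2⟩
      one_smul := fun y => Subtype.ext (one_smul G _)
      mul_smul := fun k l y => Subtype.ext (mul_smul (k : G) l _) }
  refine ⟨act, fun k y => rfl, ?_⟩
  have hinj : Function.Injective (toPermHom K Y) := fun k l h =>
    Subtype.ext (eq_of_smul_eq_smul (α := X) fun x => by
      by_cases hx : x ∈ Y
      · exact congrArg Subtype.val (Equiv.ext_iff.1 h ⟨x, hx⟩)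
      · rw [hfix k k.2 x hx, hfix l l.2 x hx])
  rw [clen_congr (MonoidHom.ofInjective hinj)]
  exact bound_action (IH _ hY)

theorem intransitive_bound (IH : ∀ m < n, Bound m) (hn : Nat.card X = n)
    (hint : ¬ IsPretransitive G X) : 3 * clen G + 4 * orbs G X ≤ 4 * n := by
  classical
  rcases isEmpty_or_nonempty X with hX | hX
  · have : Subsingleton G := ⟨fun g h => eq_of_smul_eq_smul (α := X) fun x => isEmptyElim x⟩
    have h1 : orbs G X = 0 := by
      have : IsEmpty (orbitRel.Quotient G X) :=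
        ⟨fun q => Quotient.inductionOn' q fun x => isEmptyElim x⟩
      exact Nat.card_of_isEmpty
    rw [clen_eq_zero_of_subsingleton, h1]
    omega
  obtain ⟨a⟩ := hX
  set B := orbit G a with hBdef
  have hBne : B ≠ Set.univ := by
    intro h
    refine hint ⟨fun x y => ?_⟩
    obtain ⟨g, rfl⟩ : x ∈ orbit G a := by rw [← hBdef, h]; trivial
    obtain ⟨g', rfl⟩ : y ∈ orbit G a := by rw [← hBdef, h]; trivial
    exact ⟨g' * g⁻¹, by rw [mul_smul, inv_smul_smul]⟩
  have hadd : Nat.card B + Nat.card (Bᶜ : Set X) = n := by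
    rw [Nat.card_coe_set_eq, Nat.card_coe_set_eq, Set.ncard_add_ncard_compl, hn]
  have hBlt : Nat.card B < n := by
    have : 0 < Nat.card (Bᶜ : Set X) := by
      rw [Nat.card_coe_set_eq, Set.ncard_pos]
      exact Set.nonempty_compl.2 hBne
    omega
  have hBpos : 0 < Nat.card B := by
    rw [Nat.card_coe_set_eq, Set.ncard_pos]
    exact ⟨a, mem_orbit_self a⟩
  have h1 := bound_action (G := G) (X := orbit G a) (IH _ hBlt)
  have hne : Nonempty (orbit G a) := ⟨⟨a, mem_orbit_self a⟩⟩
  have h2 := one_le_orbs (G := G) (X := orbit G a)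
  have h3 := clen_le_add_range (toPermHom G (orbit G a))
  set K := (toPermHom G (orbit G a)).ker
  obtain ⟨act, hact, h4⟩ := ker_bound IH (K := K) (Bᶜ)
    (fun k _ y hy hy' => hy (by
      have := mem_orbit_of_mem_orbit k⁻¹ hy'
      rwa [inv_smul_smul] at this))
    (fun k hk x hx => congrArg Subtype.val
      (Equiv.ext_iff.1 hk ⟨x, not_not.1 hx⟩))
    (by omega)
  have h5 : orbs G X ≤ 1 + orbs K (Bᶜ : Set X) := by
    let f : Unit ⊕ orbitRel.Quotient K (Bᶜ : Set X) → orbitRel.Quotient G X :=
      Sum.elim (fun _ => Quotient.mk'' a)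
        (Quotient.map' (fun y => (y : X)) (by
          rintro y z ⟨k, rfl⟩
          exact ⟨(k : G), (hact k z).symm⟩))
    have hf : Function.Surjective f := by
      intro q
      induction q using Quotient.inductionOn' with
      | h x =>
        by_cases hx : x ∈ B
        · exact ⟨Sum.inl (), (Quotient.sound' hx).symm⟩
        · exact ⟨Sum.inr (Quotient.mk'' ⟨x, hx⟩), rfl⟩
    have := Nat.card_le_card_of_surjective f hf
    simpa [orbs, Nat.card_sum] using this
  have hBB : Nat.card B = Nat.card (orbit G a) := rfl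
  omega

theorem imprimitive_bound (IH : ∀ m < n, Bound m) (hn : Nat.card X = n) [IsPretransitive G X]
    (hnp : ¬ IsPreprimitive G X) : 3 * clen G + 4 ≤ 4 * n := by
  classical
  obtain ⟨B, hB, hB1, hB2⟩ : ∃ B : Set X, IsBlock G B ∧ ¬ B.Subsingleton ∧ B ≠ Set.univ := by
    by_contra h
    push Not at h
    exact hnp ⟨fun {B} hB => B.subsingleton_or_nontrivial.imp id (h B hB)⟩
  have hBne : B.Nonempty := (Set.not_subsingleton_iff.1 hB1).nonempty
  have hmul := hB.ncard_block_mul_ncard_orbit_eq hBne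
  rw [hn, ← Nat.card_coe_set_eq (orbit G B)] at hmul
  have hb2 : 2 ≤ B.ncard := (Set.one_lt_ncard_iff_nontrivial).2 (Set.not_subsingleton_iff.1 hB1)
  have ha2 : 2 ≤ Nat.card (orbit G B) := by
    by_contra h
    have hlt : B.ncard < n := by
      rw [← hn, ← Set.ncard_univ]
      exact Set.ncard_lt_ncard (lt_of_le_of_ne (Set.subset_univ B) hB2) (Set.toFinite _)
    have : B.ncard * Nat.card (orbit G B) ≤ B.ncard * 1 := Nat.mul_le_mul_left _ (by omega)
    omega
  have hlt : Nat.card (orbit G B) < n := by nlinarith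
  have h1 := bound_action (G := G) (X := orbit G B) (IH _ hlt)
  have hne : Nonempty (orbit G B) := ⟨⟨B, mem_orbit_self B⟩⟩
  have h2 := one_le_orbs (G := G) (X := orbit G B)
  have h3 := clen_le_add_range (toPermHom G (orbit G B))
  set K := (toPermHom G (orbit G B)).ker with hK
  have hKfix : ∀ k ∈ K, ∀ g : G, k • g • B = g • B := fun k hk g =>
    congrArg Subtype.val (Equiv.ext_iff.1 hk ⟨g • B, mem_orbit B g⟩)
  obtain ⟨b, hb⟩ := hBne
  have hcov : ∀ x : X, ∃ g : G, g • b = x := fun x => exists_smul_eq G b x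
  choose sec hsec using hcov
  have hinX : ∀ x, x ∈ sec x • B := fun x => by
    have h : sec x • b ∈ sec x • B := Set.smul_mem_smul_set hb
    rwa [hsec x] at h
  have huniq : ∀ g h : G, ∀ x, x ∈ g • B → x ∈ h • B → g • B = h • B := fun g h x hg hh =>
    not_not.1 fun hne => Set.disjoint_left.1 (hB hne) hg hh
  have hKint : ¬ IsPretransitive K X := by
    intro hKt
    apply hB2
    refine Set.eq_univ_of_forall fun x => ?_
    obtain ⟨k, hk⟩ := exists_smul_eq K b x
    have := hKfix k k.2 1
    rw [one_smul] at this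
    rw [← this, ← hk]
    exact Set.smul_mem_smul_set hb
  have h4 := intransitive_bound (G := K) IH hn hKint
  have h5 : Nat.card (orbit G B) ≤ orbs K X := by
    let f : orbitRel.Quotient K X → orbit G B :=
      Quotient.lift (fun x => (⟨sec x • B, mem_orbit B _⟩ : orbit G B)) (by
        rintro x y ⟨k, rfl⟩
        refine Subtype.ext (huniq _ _ ((k : G) • y) (hinX _) ?_)
        rw [← hKfix k k.2 (sec y)]
        exact Set.smul_mem_smul_set (hinX y))
    refine Nat.card_le_card_of_surjective f ?_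
    rintro ⟨_, g, rfl⟩
    exact ⟨Quotient.mk'' (g • b), Subtype.ext (huniq _ _ (g • b) (hinX _) (Set.smul_mem_smul_set hb))⟩
  omega

theorem card_le_of_commute_transitive {C M : Subgroup G} (a : X)
    (hM : ∀ x y : X, ∃ m ∈ M, m • x = y) (hc : ∀ m ∈ M, ∀ c ∈ C, m * c = c * m) :
    Nat.card C ≤ Nat.card X ∧ ∀ c ∈ C, c • a = a → c = 1 := by
  have hreg : ∀ c ∈ C, c • a = a → c = 1 := fun c hcC hca =>
    eq_of_smul_eq_smul (α := X) fun x => by
      obtain ⟨m, hm, rfl⟩ := hM a x
      rw [one_smul, ← mul_smul, ← hc m hm c hcC, mul_smul, hca]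
  refine ⟨Nat.card_le_card_of_injective (fun c : C => (c : G) • a) fun c d h => ?_, hreg⟩
  have : (d : G)⁻¹ * c = 1 := hreg _ (mul_mem (inv_mem d.2) c.2) (by
    rw [mul_smul, show (c : G) • a = (d : G) • a from h, inv_smul_smul])
  exact Subtype.ext (inv_mul_eq_one.1 this).symm

theorem card_orbit_eq_of_semiregular {T : Subgroup G} (a : X) (h : ∀ t ∈ T, t • a = a → t = 1) :
    Nat.card (orbit T a) = Nat.card T := by
  refine (Nat.card_eq_of_bijective (fun t : T => (⟨(t : G) • a, ⟨t, rfl⟩⟩ : orbit T a)) ⟨?_, ?_⟩).symm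
  · intro c d e
    have : (d : G)⁻¹ * c = 1 := h _ (mul_mem (inv_mem d.2) c.2) (by
      rw [mul_smul, show (c : G) • a = (d : G) • a from congrArg Subtype.val e, inv_smul_smul])
    exact Subtype.ext (inv_mul_eq_one.1 this).symm
  · rintro ⟨_, t, rfl⟩
    exact ⟨t, rfl⟩

end Main

end Cfsg.Agent.CompLen
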