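import Cfsg.Agent.Lib.CompLen.Bound

/-!
# Composition length of permutation groups: primitive groups and the theorem

* `three_mul_clen_add_four_mul_orbs_le`: `3 * clen G + 4 * orbs G X ≤ 4 * Nat.card X` for a finite
  group acting faithfully on a finite set.
-/

namespace Cfsg.Agent.CompLen

open MulAction
open scoped Pointwise Classical

set_option autoImplicit false

universe u v

variable {G : Type u} [Group G] [Finite G] {X : Type v} [MulAction G X] [FaithfulSMul G X]
  [Finite X] {n : ℕ}

theorem orbit_sup_smul {N : Subgroup G} {s : Finset (Subgroup G)} (hs : IsFactorSet N s)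
    {S : Finset (Subgroup G)} (hS : S ⊆ s) {T : Subgroup G} (hT : T ∈ s) (hTS : T ∉ S) (a : X)
    {t : G} (ht : t ∈ T) :
    t • orbit (S.sup id : Subgroup G) a = orbit (S.sup id : Subgroup G) (t • a) := by
  ext x
  constructor
  · rintro ⟨_, ⟨y, rfl⟩, rfl⟩
    refine ⟨y, ?_⟩
    show (y : G) • t • a = t • (y : G) • a
    rw [← mul_smul, ← mul_smul, hs.sup_commute hS hT hTS t ht y y.2]
  · rintro ⟨y, rfl⟩
    refine ⟨(y : G) • a, ⟨y, rfl⟩, ?_⟩
    show t • (y : G) • a = (y : G) • t • a
    rw [← mul_smul, ← mul_smul, hs.sup_commute hS hT hTS t ht y y.2]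

/-- Adding a factor that moves the orbit of the previous ones multiplies it by at least three. -/
theorem orbit_growth {N : Subgroup G} {s : Finset (Subgroup G)} (hs : IsFactorSet N s)
    {S : Finset (Subgroup G)} (hS : S ⊆ s) (hSne : S.Nonempty) {T : Subgroup G} (hT : T ∈ s)
    (hTS : T ∉ S) (a : X) {t : G} (ht : t ∈ T)
    (hmove : t • orbit (S.sup id : Subgroup G) a ≠ orbit (S.sup id : Subgroup G) a) :
    3 * Nat.card (orbit (S.sup id : Subgroup G) a) ≤
      Nat.card (orbit ((insert T S).sup id : Subgroup G) a) := by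
  classical
  set B := orbit (S.sup id : Subgroup G) a with hB
  have := hs.simple T hT
  set W : Subgroup T := stabilizer T B with hW
  have hidx : 3 ≤ W.index := by
    by_contra h
    have h0 : W.index ≠ 0 := Subgroup.index_ne_zero_of_finite
    have h1 : W.index ≠ 1 := by
      intro e
      rw [Subgroup.index_eq_one] at e
      have : (⟨t, ht⟩ : T) ∈ W := e ▸ Subgroup.mem_top _
      exact hmove this
    have h2 : W.index = 2 := by omega
    have hn := Subgroup.normal_of_index_eq_two h2
    rcases hn.eq_bot_or_eq_top with e | e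
    · rw [e, Subgroup.index_bot] at h2
      have := four_le_card hs hT
      omega
    · rw [e, Subgroup.index_top] at h2
      omega
  rw [hW, index_stabilizer, ← Nat.card_coe_set_eq] at hidx
  refine (Nat.mul_le_mul_right _ hidx).trans ?_
  rw [← Nat.card_prod]
  have hcov : ∀ C : orbit T B, ∃ u : T, (u : G) • B = C := fun C => by
    obtain ⟨u, hu⟩ := C.2
    exact ⟨u, hu⟩
  choose sec hsec using hcov
  let f : orbit T B × B → orbit ((insert T S).sup id : Subgroup G) a := fun p =>
    ⟨(sec p.1 : G) • (p.2 : X), by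
      obtain ⟨y, hy⟩ := p.2.2
      refine ⟨⟨(sec p.1 : G) * y, ?_⟩, ?_⟩
      · rw [Finset.sup_insert, id_eq]
        exact mul_mem (Subgroup.mem_sup_left (sec p.1).2) (Subgroup.mem_sup_right y.2)
      · show ((sec p.1 : G) * y) • a = (sec p.1 : G) • (p.2 : X)
        rw [← hy, mul_smul]
        rfl⟩
  refine Nat.card_le_card_of_injective f ?_
  rintro ⟨C, x⟩ ⟨D, y⟩ h
  have h' : (sec C : G) • (x : X) = (sec D : G) • (y : X) := congrArg Subtype.val h
  have hCD : C = D := by
    refine Subtype.ext ?_
    rw [← hsec C, ← hsec D, orbit_sup_smul hs hS hT hTS a (sec C).2,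
      orbit_sup_smul hs hS hT hTS a (sec D).2]
    rcases orbit.eq_or_disjoint (G := (S.sup id : Subgroup G)) ((sec C : G) • a) ((sec D : G) • a)
      with e | e
    · exact e
    · exfalso
      have h1 : (sec C : G) • (x : X) ∈
          orbit (S.sup id : Subgroup G) ((sec C : G) • a) := by
        rw [← orbit_sup_smul hs hS hT hTS a (sec C).2]
        exact Set.smul_mem_smul_set x.2
      have h2 : (sec C : G) • (x : X) ∈
          orbit (S.sup id : Subgroup G) ((sec D : G) • a) := by
        rw [← orbit_sup_smul hs hS hT hTS a (sec D).2, h']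
        exact Set.smul_mem_smul_set y.2
      exact Set.disjoint_left.1 e h1 h2
  subst hCD
  exact Prod.ext rfl (Subtype.ext (MulAction.injective _ h'))

/-- A greedy set of factors generating a transitive group. -/
theorem exists_transitive_subset {N : Subgroup G} {s : Finset (Subgroup G)} (hs : IsFactorSet N s)
    (htr : ∀ x y : X, ∃ m ∈ N, m • x = y) {T₀ : Subgroup G} (hT₀ : T₀ ∈ s) (a : X) :
    ∃ S ⊆ s, T₀ ∈ S ∧ (∀ x y : X, ∃ m ∈ (S.sup id : Subgroup G), m • x = y) ∧
      Nat.card (orbit T₀ a) * 3 ^ (S.card - 1) ≤ Nat.card X := by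
  classical
  let P : Finset (Subgroup G) → Prop := fun S =>
    T₀ ∈ S ∧ Nat.card (orbit T₀ a) * 3 ^ (S.card - 1) ≤ Nat.card (orbit (S.sup id : Subgroup G) a)
  have hne : (s.powerset.filter P).Nonempty := by
    refine ⟨{T₀}, Finset.mem_filter.2 ⟨Finset.mem_powerset.2 (by simpa using hT₀),
      Finset.mem_singleton_self _, ?_⟩⟩
    rw [Finset.card_singleton, Nat.sub_self, pow_zero, mul_one, Finset.sup_singleton, id_eq]
  obtain ⟨S, hS, hmax⟩ := Finset.exists_max_image _ Finset.card hne
  rw [Finset.mem_filter, Finset.mem_powerset] at hS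
  obtain ⟨hSs, hS0, hSb⟩ := hS
  have huniv : orbit (S.sup id : Subgroup G) a = Set.univ := by
    by_contra hne'
    have hmv : ∃ T ∈ s, ∃ t ∈ T, t • orbit (S.sup id : Subgroup G) a ≠ orbit (S.sup id : Subgroup G) a := by
      by_contra hcon
      push Not at hcon
      have hle : N ≤ stabilizer G (orbit (S.sup id : Subgroup G) a) := by
        rw [← hs.gen]
        exact Finset.sup_le fun T hT t ht => mem_stabilizer_iff.2 (hcon T hT t ht)
      refine hne' (Set.eq_univ_of_forall fun x => ?_)
      obtain ⟨m, hm, rfl⟩ := htr a x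
      rw [← mem_stabilizer_iff.1 (hle hm)]
      exact Set.smul_mem_smul_set (mem_orbit_self a)
    obtain ⟨T, hT, t, ht, hmove⟩ := hmv
    have hTS : T ∉ S := fun h => hmove
      (smul_orbit (⟨t, Finset.le_sup (f := id) h ht⟩ : (S.sup id : Subgroup G)) a)
    have hcard : 1 ≤ S.card := Finset.card_pos.2 ⟨T₀, hS0⟩
    have h3 := orbit_growth hs hSs ⟨T₀, hS0⟩ hT hTS a ht hmove
    have hnew : insert T S ∈ s.powerset.filter P := by
      refine Finset.mem_filter.2 ⟨Finset.mem_powerset.2 (Finset.insert_subset hT hSs),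
        Finset.mem_insert_of_mem hS0, ?_⟩
      refine le_trans ?_ h3
      rw [Finset.card_insert_of_notMem hTS, Nat.add_sub_cancel,
        show S.card = S.card - 1 + 1 by omega, pow_succ, ← mul_assoc, mul_comm 3]
      exact Nat.mul_le_mul_right 3 hSb
    have := hmax _ hnew
    rw [Finset.card_insert_of_notMem hTS] at this
    omega
  refine ⟨S, hSs, hS0, fun x y => ?_, hSb.trans (Finite.card_subtype_le _)⟩
  obtain ⟨u, rfl⟩ : x ∈ orbit (S.sup id : Subgroup G) a := huniv ▸ Set.mem_univ x
  obtain ⟨w, rfl⟩ : y ∈ orbit (S.sup id : Subgroup G) a := huniv ▸ Set.mem_univ y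
  refine ⟨(w : G) * (u : G)⁻¹, mul_mem w.2 (inv_mem u.2), ?_⟩
  show ((w : G) * (u : G)⁻¹) • (u : G) • a = (w : G) • a
  rw [mul_smul, inv_smul_smul]

theorem mul_le_degree_of_intransitive {N : Subgroup G} {s : Finset (Subgroup G)}
    (hs : IsFactorSet N s) (htr : ∀ x y : X, ∃ m ∈ N, m • x = y) {T₀ : Subgroup G} (hT₀ : T₀ ∈ s)
    (a : X) (horb : ∀ T ∈ s, Nat.card (orbit T a) = Nat.card (orbit T₀ a))
    (hint : Nat.card (orbit T₀ a) < Nat.card X) :
    Nat.card (orbit T₀ a) * s.card ≤ Nat.card X := by
  classical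
  obtain ⟨S, hSs, hS0, hStr, hSb⟩ := exists_transitive_subset hs htr hT₀ a
  have hj : 2 ≤ S.card := by
    by_contra h
    have hcard : 1 ≤ S.card := Finset.card_pos.2 ⟨T₀, hS0⟩
    obtain ⟨U, rfl⟩ := Finset.card_eq_one.1 (show S.card = 1 by omega)
    rw [Finset.mem_singleton] at hS0
    subst hS0
    rw [Finset.sup_singleton, id_eq] at hStr
    have : orbit T₀ a = Set.univ := Set.eq_univ_of_forall fun x => by
      obtain ⟨m, hm, rfl⟩ := hStr a x
      exact ⟨⟨m, hm⟩, rfl⟩
    rw [this, Nat.card_coe_set_eq, Set.ncard_univ] at hint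
    exact lt_irrefl _ hint
  have hcard : S.card + (s \ S).card = s.card := by
    rw [Finset.card_sdiff_of_subset hSs]
    have := Finset.card_le_card hSs
    omega
  rw [← hcard]
  refine count_numeric (b := Nat.card T₀) hj hSb ?_
  by_cases hr : (s \ S).card = 0
  · exact Or.inl hr
  right
  obtain ⟨U, hU⟩ := Finset.card_pos.1 (Nat.pos_of_ne_zero hr)
  rw [Finset.mem_sdiff] at hU
  have hC := card_le_of_commute_transitive (C := ((s \ S).sup id : Subgroup G)) a hStr (by
    intro m hm c hc
    have hle : ((s \ S).sup id : Subgroup G) ≤ Subgroup.centralizer ((S.sup id : Subgroup G) : Set G) :=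
      Finset.sup_le fun V hV z hz w hw => by
        rw [Finset.mem_sdiff] at hV
        exact (hs.sup_commute hSs hV.1 hV.2 z hz w hw).symm
    exact hle hc m hm)
  refine ⟨?_, four_le_card hs hT₀, ?_⟩
  · rw [← horb U hU.1, ← hs.card_eq hU.1 hT₀]
    exact card_orbit_eq_of_semiregular a fun u hu hua =>
      hC.2 u (Finset.le_sup (f := id) (Finset.mem_sdiff.2 hU) hu) hua
  · exact (hs.pow_card_le_card_sup hT₀ _ Finset.sdiff_subset).trans hC.1

/-- The kernel of the action on the factors. -/
theorem clen_kernel_le {N : Subgroup G} {s : Finset (Subgroup G)} (hs : IsFactorSet N s)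
    (K0 : Subgroup G) [K0.Normal] (hK0 : ∀ k ∈ K0, ∀ T ∈ s, k ∈ Subgroup.normalizer (T : Set G))
    {c : ℕ} (hc : ∀ T ∈ s, clen T.normalizerMonoidHom.range ≤ c) :
    ∀ R ⊆ s, clen K0 ≤ R.card * c +
      clen (K0 ⊓ Subgroup.centralizer ((R.sup id : Subgroup G) : Set G) : Subgroup G) := by
  classical
  intro R
  induction R using Finset.induction with
  | empty =>
    intro _
    rw [Finset.card_empty, zero_mul, zero_add]
    have e : K0 ⊓ Subgroup.centralizer (((∅ : Finset (Subgroup G)).sup id : Subgroup G) : Set G) = K0 := by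
      refine inf_eq_left.2 fun k _ x hx => ?_
      rw [Finset.sup_empty, Subgroup.coe_bot, Set.mem_singleton_iff] at hx
      rw [hx, one_mul, mul_one]
    exact (clen_congr (MulEquiv.subgroupCongr e.symm)).le
  | insert U R hU ih =>
    intro hsub
    have hUs : U ∈ s := hsub (Finset.mem_insert_self U R)
    have ih := ih ((Finset.subset_insert U R).trans hsub)
    set L := K0 ⊓ Subgroup.centralizer ((R.sup id : Subgroup G) : Set G) with hL
    have hLn : L ≤ Subgroup.normalizer (U : Set G) := fun l hl => hK0 l hl.1 U hUs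
    let φ : L →* MulAut U := U.normalizerMonoidHom.comp (Subgroup.inclusion hLn)
    have h1 := clen_le_add_range φ
    -- the kernel
    set L' := K0 ⊓ Subgroup.centralizer (((insert U R).sup id : Subgroup G) : Set G) with hL'
    have hker : φ.ker = L'.subgroupOf L := by
      ext ⟨l, hl⟩
      rw [MonoidHom.mem_ker, Subgroup.mem_subgroupOf]
      show U.normalizerMonoidHom ⟨l, hLn hl⟩ = 1 ↔ l ∈ L'
      rw [← MonoidHom.mem_ker, Subgroup.normalizerMonoidHom_ker, Subgroup.mem_subgroupOf]
      show l ∈ Subgroup.centralizer (U : Set G) ↔ l ∈ L'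
      rw [hL', Subgroup.mem_inf, Finset.sup_insert, id_eq]
      constructor
      · intro h
        refine ⟨hl.1, fun x hx => ?_⟩
        have hle : U ⊔ R.sup id ≤ Subgroup.centralizer {l} := by
          refine sup_le (fun y hy z hz => ?_) (fun y hy z hz => ?_)
          · rw [Set.mem_singleton_iff.1 hz]; exact (h y hy).symm
          · rw [Set.mem_singleton_iff.1 hz]; exact (hl.2 y hy).symm
        exact (hle hx l rfl).symm
      · intro h x hx
        exact h.2 x (Subgroup.mem_sup_left hx)
    have hle' : L' ≤ L := by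
      refine inf_le_inf_left _ (Subgroup.centralizer_le ?_)
      exact SetLike.coe_subset_coe.2 (Finset.sup_mono (Finset.subset_insert U R))
    have h2 : clen φ.ker = clen L' :=
      (clen_congr (MulEquiv.subgroupCongr hker)).trans
        (clen_congr (Subgroup.subgroupOfEquivOfLe hle'))
    -- the image is subnormal in the group of automorphisms induced on U
    have hKn : K0 ≤ Subgroup.normalizer (U : Set G) := fun k hk => hK0 k hk U hUs
    let ψ : K0 →* MulAut U := U.normalizerMonoidHom.comp (Subgroup.inclusion hKn)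
    have hLK : φ.range ≤ ψ.range := by
      rintro _ ⟨⟨l, hl⟩, rfl⟩
      exact ⟨⟨l, hl.1⟩, rfl⟩
    have hKA : ψ.range ≤ U.normalizerMonoidHom.range := by
      rintro _ ⟨k, rfl⟩
      exact ⟨_, rfl⟩
    have hn1 : (φ.range.subgroupOf ψ.range).Normal := by
      constructor
      rintro ⟨_, ⟨k, rfl⟩⟩ hx ⟨_, ⟨g, rfl⟩⟩
      rw [Subgroup.mem_subgroupOf] at hx ⊢
      obtain ⟨⟨l, hl⟩, hlx⟩ := hx
      have hgl : (g : G) * l * (g : G)⁻¹ ∈ L := by
        refine Subgroup.mem_inf.2 ⟨mul_mem (mul_mem g.2 hl.1) (inv_mem g.2), fun x hx => ?_⟩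
        have hg : (g : G)⁻¹ * x * g ∈ (R.sup id : Subgroup G) := by
          have hle : (R.sup id : Subgroup G) ≤
              (R.sup id : Subgroup G).comap (MulAut.conj (g : G)⁻¹).toMonoidHom := by
            refine Finset.sup_le fun V hV y hy => ?_
            have hgn := hK0 _ (inv_mem g.2) V (hsub (Finset.mem_insert_of_mem hV))
            refine Finset.le_sup (f := id) hV ?_
            exact (Subgroup.mem_normalizer_iff.1 hgn y).1 hy
          simpa using hle hx
        have e := hl.2 _ hg
        calc x * ((g : G) * l * (g : G)⁻¹) = g * ((g : G)⁻¹ * x * g * l) * (g : G)⁻¹ := by group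
          _ = g * (l * ((g : G)⁻¹ * x * g)) * (g : G)⁻¹ := by rw [e]
          _ = g * l * (g : G)⁻¹ * x := by group
      refine ⟨⟨_, hgl⟩, ?_⟩
      show U.normalizerMonoidHom ⟨(g : G) * l * (g : G)⁻¹, _⟩ = ψ g * ψ k * (ψ g)⁻¹
      rw [← show φ ⟨l, hl⟩ = ψ k from hlx]
      show _ = U.normalizerMonoidHom ⟨g, _⟩ * U.normalizerMonoidHom ⟨l, _⟩ *
        (U.normalizerMonoidHom ⟨g, _⟩)⁻¹
      rw [← map_inv, ← map_mul, ← map_mul]
      rfl
    have hn2 : (ψ.range.subgroupOf U.normalizerMonoidHom.range).Normal := by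
      constructor
      rintro ⟨_, ⟨x, rfl⟩⟩ hx ⟨_, ⟨g, rfl⟩⟩
      rw [Subgroup.mem_subgroupOf] at hx ⊢
      obtain ⟨k, hkx⟩ := hx
      refine ⟨⟨(g : G) * k * (g : G)⁻¹, Subgroup.Normal.conj_mem ‹K0.Normal› _ k.2 _⟩, ?_⟩
      show U.normalizerMonoidHom ⟨(g : G) * k * (g : G)⁻¹, _⟩ =
        U.normalizerMonoidHom g * U.normalizerMonoidHom x * (U.normalizerMonoidHom g)⁻¹
      rw [← show ψ k = U.normalizerMonoidHom x from hkx]
      show _ = U.normalizerMonoidHom g * U.normalizerMonoidHom ⟨k, _⟩ * _
      rw [← map_inv, ← map_mul, ← map_mul]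
      rfl
    have h3 : clen φ.range ≤ c := by
      refine le_trans ?_ (hc U hUs)
      refine le_trans (clen_le_of_injective_normal (Subgroup.inclusion hLK)
        (Subgroup.inclusion_injective hLK) ?_) (clen_le_of_injective_normal (Subgroup.inclusion hKA)
        (Subgroup.inclusion_injective hKA) ?_)
      · rwa [Subgroup.inclusion_range]
      · rwa [Subgroup.inclusion_range]
    rw [Finset.card_insert_of_notMem hU, Nat.succ_mul]
    omega

theorem nonabelian_bound (IH : ∀ m < n, Bound m) (hn : Nat.card X = n) {N : Subgroup G} [N.Normal]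
    (htr : ∀ x y : X, ∃ m ∈ N, m • x = y) [IsPreprimitive G X] {s : Finset (Subgroup G)}
    (hs : IsFactorSet N s) (h2 : 2 ≤ s.card) (a : X) : 3 * clen G + 4 ≤ 4 * n := by
  classical
  obtain ⟨T₀, hT₀⟩ := hs.nonempty
  -- orbits of all factors at `a` have the same size
  have horb : ∀ T ∈ s, Nat.card (orbit T a) = Nat.card (orbit T₀ a) := by
    intro T hT
    obtain ⟨g, rfl⟩ := hs.trans T₀ hT₀ T hT
    obtain ⟨m, hm, y, hy, rfl⟩ := exists_mem_mul_stabilizer N a (fun x => htr a x) g
    have hy' : cj (m * y) T₀ = cj y T₀ := by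
      rw [cj_mul]
      exact cj_eq_iff_mem_normalizer.2 (normalizer_ge hs (hs.conj_mem y T₀ hT₀) hm)
    rw [hy']
    have hset : orbit (cj y T₀) a = y • orbit T₀ a := by
      ext x
      constructor
      · rintro ⟨⟨u, hu⟩, rfl⟩
        rw [mem_cj] at hu
        refine ⟨(y⁻¹ * u * y) • a, ⟨⟨_, hu⟩, rfl⟩, ?_⟩
        show y • (y⁻¹ * u * y) • a = u • a
        rw [mul_smul, mul_smul, mem_stabilizer_iff.1 hy, smul_inv_smul]
      · rintro ⟨_, ⟨u, rfl⟩, rfl⟩
        refine ⟨⟨y * u * y⁻¹, mem_cj.2 (by simp [mul_assoc])⟩, ?_⟩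
        show (y * (u : G) * y⁻¹) • a = y • (u : G) • a
        rw [mul_smul, mul_smul, mem_stabilizer_iff.1 (inv_mem hy)]
    rw [hset, Nat.card_coe_set_eq, Nat.card_coe_set_eq, Set.ncard_smul_set]
  have hb4 := four_le_card hs hT₀
  -- the action on the factors
  let act : MulAction G {T : Subgroup G // T ∈ s} :=
    { smul := fun g T => ⟨cj g T.1, hs.conj_mem g T.1 T.2⟩
      one_smul := fun T => Subtype.ext (cj_one T.1)
      mul_smul := fun g h T => Subtype.ext (cj_mul g h T.1) }
  have hk : Nat.card {T : Subgroup G // T ∈ s} = s.card := by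
    rw [Nat.card_eq_fintype_card, Fintype.card_coe]
  have hsemi_bound : (∀ T ∈ s, ∀ t ∈ T, t • a = a → t = 1) →
      Nat.card T₀ ^ (s.card - 1) ≤ n → s.card < n := by
    intro _ h
    have := two_mul_le_pow hb4 s.card h2
    omega
  have hkn : s.card < n := by
    by_cases hint : Nat.card (orbit T₀ a) < Nat.card X
    · have h := mul_le_degree_of_intransitive hs htr hT₀ a horb hint
      have h1 : 2 ≤ Nat.card (orbit T₀ a) := by
        by_contra hlt
        refine not_fix hs htr hT₀ a fun t ht => ?_
        have hsub : Subsingleton (orbit T₀ a) := Finite.card_le_one_iff_subsingleton.1 (by omega)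
        exact congrArg Subtype.val
          (hsub.elim ⟨t • a, ⟨⟨t, ht⟩, rfl⟩⟩ ⟨a, mem_orbit_self a⟩)
      nlinarith
    · have hle : Nat.card (orbit T₀ a) ≤ Nat.card X := Finite.card_subtype_le _
      have hT₀tr : ∀ x y : X, ∃ m ∈ T₀, m • x = y := by
        have hu : orbit T₀ a = Set.univ := Set.eq_of_subset_of_ncard_le (Set.subset_univ _)
          (by rw [Set.ncard_univ, ← Nat.card_coe_set_eq]; omega) (Set.toFinite _)
        intro x y
        obtain ⟨u, rfl⟩ : x ∈ orbit T₀ a := hu ▸ Set.mem_univ x
        obtain ⟨w, rfl⟩ : y ∈ orbit T₀ a := hu ▸ Set.mem_univ y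
        exact ⟨(w : G) * (u : G)⁻¹, mul_mem w.2 (inv_mem u.2), by
          show ((w : G) * (u : G)⁻¹) • (u : G) • a = (w : G) • a
          rw [mul_smul, inv_smul_smul]⟩
      have hC := card_le_of_commute_transitive (C := ((s.erase T₀).sup id : Subgroup G)) a hT₀tr
        (hs.sup_commute (Finset.erase_subset _ _) hT₀ (Finset.notMem_erase _ _))
      have h := (hs.pow_card_le_card_sup hT₀ _ (Finset.erase_subset T₀ s)).trans hC.1
      rw [Finset.card_erase_of_mem hT₀, hn] at h
      have := two_mul_le_pow hb4 s.card h2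
      omega
  have hq := bound_action (G := G) (X := {T : Subgroup G // T ∈ s}) (IH _ (by rw [hk]; exact hkn))
  have : Nonempty {T : Subgroup G // T ∈ s} := ⟨⟨T₀, hT₀⟩⟩
  have hq1 := one_le_orbs (G := G) (X := {T : Subgroup G // T ∈ s})
  have hsplit := clen_le_add_range (toPermHom G {T : Subgroup G // T ∈ s})
  set K0 := (toPermHom G {T : Subgroup G // T ∈ s}).ker with hK0def
  have hK0 : ∀ k ∈ K0, ∀ T ∈ s, k ∈ Subgroup.normalizer (T : Set G) := fun k hkk T hT =>
    cj_eq_iff_mem_normalizer.1 (congrArg Subtype.val (Equiv.ext_iff.1 hkk ⟨T, hT⟩))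
  set C := Subgroup.centralizer (N : Set G) with hCdef
  have hCle : clen (K0 ⊓ Subgroup.centralizer ((s.sup id : Subgroup G) : Set G) : Subgroup G) ≤
      clen C := by
    have : C.Normal := by
      rw [hCdef]; infer_instance
    have e : K0 ⊓ Subgroup.centralizer ((s.sup id : Subgroup G) : Set G) ≤ C := by
      rw [hs.gen]; exact inf_le_right
    refine clen_le_of_injective_normal (Subgroup.inclusion e) (Subgroup.inclusion_injective e) ?_
    rw [Subgroup.inclusion_range]
    refine Subgroup.Normal.subgroupOf ?_ _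
    rw [hs.gen]
    exact Subgroup.normal_inf_normal K0 (Subgroup.centralizer (N : Set G))
  by_cases hC : C = ⊥
  · -- trivial centralizer
    have hC0 : clen C = 0 := by
      have : Subsingleton C := by rw [hC]; infer_instance
      exact clen_eq_zero_of_subsingleton
    by_cases hint : Nat.card (orbit T₀ a) < Nat.card X
    · have hbd : ∀ T ∈ s, 3 * clen T.normalizerMonoidHom.range + 4 ≤
          4 * Nat.card (orbit T₀ a) := fun T hT =>
        horb T hT ▸ clen_aut_le_of_orbit hs htr hT a (IH _ (by rw [horb T hT]; omega))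
      set c := clen (Subgroup.normalizerMonoidHom T₀).range with hc'
      obtain ⟨T₁, hT₁, hT₁max⟩ := Finset.exists_max_image s
        (fun T : Subgroup G => clen T.normalizerMonoidHom.range) hs.nonempty
      have hK := clen_kernel_le hs K0 hK0 (c := clen T₁.normalizerMonoidHom.range)
        (fun T hT => hT₁max T hT) s le_rfl
      have h3 := hbd T₁ hT₁
      have h4 := mul_le_degree_of_intransitive hs htr hT₀ a horb hint
      have h5 : s.card * (3 * clen T₁.normalizerMonoidHom.range + 4) ≤
          s.card * (4 * Nat.card (orbit T₀ a)) := Nat.mul_le_mul_left _ h3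
      rw [mul_add, ← mul_assoc, mul_comm (s.card) 3, mul_assoc, ← mul_assoc (s.card) 4,
        mul_comm (s.card) 4, mul_assoc, mul_comm (s.card) (Nat.card (orbit T₀ a))] at h5
      omega
    · -- a factor is regular
      have hle : Nat.card (orbit T₀ a) ≤ Nat.card X := Finite.card_subtype_le _
      have hXeq : Nat.card (orbit T₀ a) = n := by omega
      have htrT : ∀ T ∈ s, ∀ x y : X, ∃ m ∈ T, m • x = y := by
        intro T hT
        have hu : orbit T a = Set.univ := Set.eq_of_subset_of_ncard_le (Set.subset_univ _)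
          (by rw [Set.ncard_univ, ← Nat.card_coe_set_eq, horb T hT]; omega) (Set.toFinite _)
        intro x y
        obtain ⟨u, rfl⟩ : x ∈ orbit T a := hu ▸ Set.mem_univ x
        obtain ⟨w, rfl⟩ : y ∈ orbit T a := hu ▸ Set.mem_univ y
        exact ⟨(w : G) * (u : G)⁻¹, mul_mem w.2 (inv_mem u.2), by
          show ((w : G) * (u : G)⁻¹) • (u : G) • a = (w : G) • a
          rw [mul_smul, inv_smul_smul]⟩
      have hT₀C := card_le_of_commute_transitive (C := ((s.erase T₀).sup id : Subgroup G)) a
        (htrT T₀ hT₀) (hs.sup_commute (Finset.erase_subset _ _) hT₀ (Finset.notMem_erase _ _))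
      obtain ⟨U, hU⟩ := Finset.card_pos.1
        (show 0 < (s.erase T₀).card by rw [Finset.card_erase_of_mem hT₀]; omega)
      obtain ⟨hUne, hUs⟩ := Finset.mem_erase.1 hU
      have hbn : Nat.card T₀ = n := by
        rw [← hXeq, ← horb U hUs, hs.card_eq hT₀ hUs]
        exact (card_orbit_eq_of_semiregular a fun u hu hua =>
          hT₀C.2 u (Finset.le_sup (f := id) hU hu) hua).symm
      have hk2 : s.card = 2 := by
        by_contra hne
        have h := (hs.pow_card_le_card_sup hT₀ _ (Finset.erase_subset T₀ s)).trans hT₀C.1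
        rw [Finset.card_erase_of_mem hT₀, hn, hbn] at h
        have h' : n ^ 2 ≤ n := (Nat.pow_le_pow_right (by omega) (by omega)).trans h
        nlinarith
      obtain ⟨T₁, hT₁, hT₁max⟩ := Finset.exists_max_image s
        (fun T : Subgroup G => clen T.normalizerMonoidHom.range) hs.nonempty
      have h3 := clen_aut_le_of_sylow hs hT₁ (fun m hm => IH m (by
        rw [← hs.card_eq hT₀ hT₁, hbn] at hm
        omega))
      rw [← hs.card_eq hT₀ hT₁, hbn] at h3
      have hK := clen_kernel_le hs K0 hK0 (c := clen T₁.normalizerMonoidHom.range)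
        (fun T hT => hT₁max T hT) s le_rfl
      rw [hk2] at hK hk
      omega
  · -- non-trivial centralizer: N is regular
    have hCn : C.Normal := by
      rw [hCdef]; infer_instance
    have hCtr := Cfsg.Agent.Perm.isPretransitive_of_normal_ne_bot (X := X) (N := C) hC
    have hCtr' : ∀ x y : X, ∃ m ∈ C, m • x = y := fun x y => by
      obtain ⟨m, hm⟩ := exists_smul_eq C x y
      exact ⟨m, m.2, hm⟩
    have hNC := card_le_of_commute_transitive (C := N) a hCtr'
      (fun m hm c hc => (hm c hc).symm)
    have hCC := card_le_of_commute_transitive (C := C) a htr (fun m hm c hc => hc m hm)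
    have hsemi : ∀ T ∈ s, Nat.card (orbit T a) = Nat.card T := fun T hT =>
      card_orbit_eq_of_semiregular a fun t ht hta => hNC.2 t (hs.le T hT ht) hta
    have hpow : Nat.card T₀ ^ s.card ≤ n := by
      have := hs.pow_card_le_card_sup hT₀ s le_rfl
      rw [hs.gen] at this
      rw [← hn]
      exact this.trans hNC.1
    have hclt : clen C < n := lt_of_lt_of_le Nat.lt_two_pow_self
      ((two_pow_clen_le_card (G := C)).trans (hn ▸ hCC.1))
    have hbn : Nat.card T₀ ≤ n :=
      le_trans (Nat.le_self_pow (by omega) _) hpow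
    obtain ⟨T₁, hT₁, hT₁max⟩ := Finset.exists_max_image s
      (fun T : Subgroup G => clen T.normalizerMonoidHom.range) hs.nonempty
    have h3 := clen_aut_le_of_sylow hs hT₁ (fun m hm => IH m (by
      rw [← hs.card_eq hT₀ hT₁] at hm
      omega))
    rw [← hs.card_eq hT₀ hT₁] at h3
    have hK := clen_kernel_le hs K0 hK0 (c := clen T₁.normalizerMonoidHom.range)
      (fun T hT => hT₁max T hT) s le_rfl
    have h5 : 2 * s.card * Nat.card T₀ ≤ Nat.card T₀ ^ s.card := by
      conv_rhs => rw [show s.card = s.card - 1 + 1 by omega, pow_succ]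
      exact Nat.mul_le_mul_right _ (two_mul_le_pow hb4 s.card h2)
    have h6 : s.card * (3 * clen T₁.normalizerMonoidHom.range + 4) ≤ s.card * (2 * Nat.card T₀) :=
      Nat.mul_le_mul_left _ h3
    have h7 : s.card * (3 * clen T₁.normalizerMonoidHom.range + 4) =
        3 * (s.card * clen T₁.normalizerMonoidHom.range) + 4 * s.card := by ring
    have h8 : s.card * (2 * Nat.card T₀) = 2 * s.card * Nat.card T₀ := by ring
    omega

theorem exists_characteristic_prime_exponent (N : Subgroup G) [hN : N.Normal] (hne : N ≠ ⊥)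
    (hc : IsMulCommutative N)
    (hmin : ∀ M : Subgroup G, M.Normal → M ≤ N → M ≠ ⊥ → M = N) :
    ∃ p d : ℕ, p.Prime ∧ Nat.card N = p ^ d := by
  have : Nontrivial N := (Subgroup.nontrivial_iff_ne_bot N).2 hne
  have hp : (Nat.card N).minFac.Prime := Nat.minFac_prime Finite.one_lt_card.ne'
  set p := (Nat.card N).minFac
  have := Fact.mk hp
  let M : Subgroup G :=
    { carrier := {x | x ∈ N ∧ x ^ p = 1}
      one_mem' := ⟨one_mem N, one_pow p⟩
      mul_mem' := fun {x y} hx hy => ⟨mul_mem hx.1 hy.1, by
        have : x * y = y * x := congrArg Subtype.val (hc.is_comm.comm ⟨x, hx.1⟩ ⟨y, hy.1⟩)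
        rw [Commute.mul_pow this, hx.2, hy.2, one_mul]⟩
      inv_mem' := fun {x} hx => ⟨inv_mem hx.1, by rw [inv_pow, hx.2, inv_one]⟩ }
  have hMn : M.Normal := ⟨fun x hx g => ⟨hN.conj_mem x hx.1 g, by
    rw [conj_pow, hx.2, mul_one, mul_inv_cancel]⟩⟩
  have hMne : M ≠ ⊥ := by
    obtain ⟨z, hz⟩ := exists_prime_orderOf_dvd_card' p (Nat.minFac_dvd (Nat.card N))
    intro h
    have hzM : (z : G) ∈ M := ⟨z.2, by rw [← Subgroup.coe_pow, ← hz, pow_orderOf_eq_one]; rfl⟩
    rw [h, Subgroup.mem_bot] at hzM
    rw [show z = 1 from Subtype.ext hzM, orderOf_one] at hz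
    exact hp.one_lt.ne hz
  have hMN := hmin M hMn (fun x hx => hx.1) hMne
  have hpg : IsPGroup p N := fun x => ⟨1, by
    rw [pow_one]
    refine Subtype.ext ?_
    exact (hMN.ge x.2).2⟩
  obtain ⟨d, hd⟩ := hpg.exists_card_eq
  exact ⟨p, d, hp, hd⟩

theorem primitive_bound (IH : ∀ m < n, Bound m) (hn : Nat.card X = n) (hn2 : 2 ≤ n)
    [IsPreprimitive G X] : 3 * clen G + 4 ≤ 4 * n := by
  classical
  have : Nontrivial X := Finite.one_lt_card_iff_nontrivial.1 (by omega)
  obtain ⟨a, b, hab⟩ := exists_pair_ne X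
  have hGnt : Nontrivial G := by
    obtain ⟨g, hg⟩ := exists_smul_eq G a b
    exact ⟨⟨g, 1, fun h => hab (by rw [← hg, h, one_smul])⟩⟩
  obtain ⟨N, hNn, hNne, hNmin⟩ := Cfsg.Agent.Cores.exists_minimal_normal (G := G)
  have hNtr := Cfsg.Agent.Perm.isPretransitive_of_normal_ne_bot (X := X) (N := N) hNne
  have htr : ∀ x y : X, ∃ m ∈ N, m • x = y := fun x y => by
    obtain ⟨m, hm⟩ := exists_smul_eq N x y
    exact ⟨m, m.2, hm⟩
  have hH : ¬ IsPretransitive (stabilizer G a) X := fun h => by
    obtain ⟨y, hy⟩ := exists_smul_eq (stabilizer G a) a b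
    exact hab ((mem_stabilizer_iff.1 y.2).symm.trans hy)
  have hsum := clen_le_clen_add_clen_of_sup N (stabilizer G a)
    (exists_mem_mul_stabilizer N a (fun x => htr a x))
  have hsimple : IsSimpleGroup N → 3 * clen G + 4 ≤ 4 * n := by
    intro _
    have h1 := clen_le_one_of_isSimpleGroup (G := N)
    have h2 := intransitive_bound (G := stabilizer G a) (X := X) IH hn hH
    have h3 : 2 ≤ orbs (stabilizer G a) X := by
      unfold orbs
      rw [Nat.succ_le_iff, Finite.one_lt_card_iff_nontrivial]
      refine ⟨⟨Quotient.mk'' a, Quotient.mk'' b, fun h => ?_⟩⟩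
      obtain ⟨y, hy⟩ := orbitRel_apply.1 (Quotient.exact' h.symm)
      exact hab ((mem_stabilizer_iff.1 y.2).symm.trans hy)
    omega
  by_cases hc : IsMulCommutative N
  · obtain ⟨p, d, hp, hd⟩ := exists_characteristic_prime_exponent N hNne hc
      (fun M hM hMN hMne => (hNmin M hM hMN).resolve_left hMne)
    have := Fact.mk hp
    by_cases hd1 : d ≤ 1
    · refine hsimple (isSimpleGroup_of_prime_card (p := p) ?_)
      interval_cases d
      · exact absurd (Subgroup.card_eq_one.1 (by rw [hd, pow_zero])) hNne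
      · rw [hd, pow_one]
    · have hX : Nat.card X = p ^ d := by
        rw [← hd]
        refine le_antisymm ?_ ?_
        · exact Nat.card_le_card_of_surjective (fun m : N => (m : G) • a) fun x => by
            obtain ⟨m, hm, h⟩ := htr a x
            exact ⟨⟨m, hm⟩, h⟩
        · exact (card_le_of_commute_transitive (C := N) a htr fun x hx y hy =>
            congrArg Subtype.val (hc.is_comm.comm ⟨x, hx⟩ ⟨y, hy⟩)).1
      have := affine_bound (X := X) (by omega : 2 ≤ d) N htr hd hX
      rw [← hn, hX]
      exact this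
  · obtain ⟨s, hs⟩ := exists_factorSet N hNne
      (fun M hM hMN hMne => (hNmin M hM hMN).resolve_left hMne) hc
    by_cases h2 : 2 ≤ s.card
    · exact nonabelian_bound IH hn htr hs h2 a
    · obtain ⟨T, rfl⟩ := Finset.card_eq_one.1
        (show s.card = 1 by have := Finset.card_pos.2 hs.nonempty; omega)
      have hT : T = N := by simpa using hs.gen
      exact hsimple (hT ▸ hs.simple T (Finset.mem_singleton_self T))

theorem bound_all : ∀ m, Bound m := by
  intro m
  induction m using Nat.strong_induction_on with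
  | _ m IH =>
    intro P
    by_cases htr : IsPretransitive P (Fin m)
    · rcases Nat.lt_or_ge m 2 with hm | hm
      · have hsub : Subsingleton P := ⟨fun p q => Subtype.ext (Equiv.ext fun i => Fin.ext (by
          have := ((p : Equiv.Perm (Fin m)) i).2
          have := ((q : Equiv.Perm (Fin m)) i).2
          omega))⟩
        rw [clen_eq_zero_of_subsingleton]
        have : orbs P (Fin m) ≤ m :=
          (Nat.card_le_card_of_surjective (fun i : Fin m => (Quotient.mk'' i : orbitRel.Quotient P (Fin m)))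
            (fun q => Quotient.inductionOn' q fun i => ⟨i, rfl⟩)).trans (by simp)
        omega
      · have : Nonempty (Fin m) := ⟨⟨0, by omega⟩⟩
        have h1 : orbs P (Fin m) = 1 := by
          refine le_antisymm ?_ one_le_orbs
          refine Finite.card_le_one_iff_subsingleton.2 ⟨fun q r => ?_⟩
          induction q using Quotient.inductionOn'
          induction r using Quotient.inductionOn'
          exact Quotient.sound' (mem_orbit_iff.2 (exists_smul_eq P _ _))
        by_cases hp : IsPreprimitive P (Fin m)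
        · have := primitive_bound (G := P) (X := Fin m) IH (Nat.card_fin m) hm
          omega
        · have := imprimitive_bound (G := P) (X := Fin m) IH (Nat.card_fin m) hp
          omega
    · exact intransitive_bound IH (Nat.card_fin m) htr

/-- A finite group acting faithfully on n points with r orbits has composition length at most
4 (n - r) / 3. -/
theorem three_mul_clen_add_four_mul_orbs_le :
    3 * clen G + 4 * orbs G X ≤ 4 * Nat.card X := by
  rw [clen_eq_range (X := X)]
  exact bound_action (bound_all _)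

end Cfsg.Agent.CompLen
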